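import Mathlib
import Cfsg.Prelude.Def_Blocks
import Cfsg.Agent.Lib.ZStar.Principal
import Cfsg.Agent.Lib.PrimeBlock.Simple
import Cfsg.Agent.OddChar.PowTwist
import Cfsg.Agent.Lib.NineSection.Gen

/-!
# The two non-trivial constituents
-/

set_option autoImplicit false
set_option linter.style.haveILetI false
set_option linter.unusedSectionVars false

namespace Cfsg.Agent.NineSection

open Subgroup Cfsg.Agent.Blocks Cfsg.Agent.Characters
open Cfsg.Agent.PrimeBlock (deg deg_cast exists_int_of_pow_fixed)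
open scoped ComplexConjugate Classical

universe u v

variable {G : Type u} [Group G] [Finite G]

/-- Among integers with sum of squares three, one of them `1`, two others are signs. -/
theorem exists_two_signs {ι : Type v} [Fintype ι] {c : ι → ℤ} {t : ι} (ht : c t = 1)
    (h : ∑ i, c i * c i = 3) :
    ∃ x y, x ≠ t ∧ y ≠ t ∧ x ≠ y ∧ (c x = 1 ∨ c x = -1) ∧ (c y = 1 ∨ c y = -1) ∧
      ∀ i, i ≠ t → i ≠ x → i ≠ y → c i = 0 := by
  set S := (Finset.univ.erase t).filter fun i => c i ≠ 0 with hS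
  have hsum : ∑ i ∈ S, c i * c i = 2 := by
    have h2 : ∑ i ∈ S, c i * c i = ∑ i ∈ Finset.univ.erase t, c i * c i := by
      refine Finset.sum_subset (Finset.filter_subset _ _) fun i hi hni => ?_
      have h0 : c i = 0 := by
        by_contra h0
        exact hni (Finset.mem_filter.2 ⟨hi, h0⟩)
      rw [h0, mul_zero]
    rw [h2, Finset.sum_erase_eq_sub (Finset.mem_univ t), h, ht]
    norm_num
  have hsq : ∀ i ∈ S, 1 ≤ c i * c i := fun i hi =>
    Int.add_one_le_iff.2 (mul_self_pos.2 (Finset.mem_filter.1 hi).2)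
  have hle : (S.card : ℤ) ≤ 2 := by
    have := Finset.card_nsmul_le_sum S _ _ hsq
    rw [hsum, nsmul_eq_mul, mul_one] at this
    exact this
  have hsign : ∀ i ∈ S, c i = 1 ∨ c i = -1 := by
    intro i hi
    have h1 := Finset.single_le_sum (f := fun j => c j * c j) (fun j _ => mul_self_nonneg _) hi
    rw [hsum] at h1
    have h0 := (Finset.mem_filter.1 hi).2
    have h2 : -1 ≤ c i ∧ c i ≤ 1 := by constructor <;> nlinarith
    omega
  have hcard : S.card = 2 := by
    have h1 : ∑ i ∈ S, c i * c i = (S.card : ℤ) := by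
      rw [Finset.sum_congr rfl fun i hi => show c i * c i = 1 by
        rcases hsign i hi with e | e <;> simp [e]]
      simp
    rw [hsum] at h1
    exact_mod_cast h1.symm
  obtain ⟨x, y, hxy, he⟩ := Finset.card_eq_two.1 hcard
  have hx : x ∈ S := by rw [he]; simp
  have hy : y ∈ S := by rw [he]; simp
  refine ⟨x, y, (Finset.mem_erase.1 (Finset.mem_filter.1 hx).1).1,
    (Finset.mem_erase.1 (Finset.mem_filter.1 hy).1).1, hxy, hsign x hx, hsign y hy,
    fun i hit hix hiy => ?_⟩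
  by_contra hi
  have : i ∈ S := Finset.mem_filter.2 ⟨Finset.mem_erase.2 ⟨hit, Finset.mem_univ _⟩, hi⟩
  rw [he] at this
  simp [hix, hiy] at this

/-- The decomposition of a mark. -/
structure Pair [Fintype G] (P : Sylow 3 G) (K : Subgroup G) where
  χ : Cfsg.IrrCharacter G
  ξ : Cfsg.IrrCharacter G
  ε : ℤ
  δ : ℤ
  hε : ε = 1 ∨ ε = -1
  hδ : δ = 1 ∨ δ = -1
  χ_ne : χ ≠ trivIrr G
  ξ_ne : ξ ≠ trivIrr G
  ne : χ ≠ ξ
  one : Cfsg.classInner (mark P K) (trivIrr G : G → ℂ) = 1
  inner_χ : Cfsg.classInner (mark P K) (χ : G → ℂ) = (ε : ℂ)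
  inner_ξ : Cfsg.classInner (mark P K) (ξ : G → ℂ) = (δ : ℂ)
  other : ∀ ψ : Cfsg.IrrCharacter G, ψ ≠ trivIrr G → ψ ≠ χ → ψ ≠ ξ →
    Cfsg.classInner (mark P K) (ψ : G → ℂ) = 0

variable [Fintype G] {P : Sylow 3 G} {K : Subgroup G}

theorem exists_pair (hP : Nat.card (P : Subgroup G) = 9) (hK : Line P K)
    (h1 : Cfsg.classInner (mark P K) (fun _ => 1) = 1) : Nonempty (Pair P K) := by
  haveI := Fintype.ofFinite (Cfsg.IrrCharacter G)
  obtain ⟨c, hc⟩ := ZStar.Induce.exists_coeffs (isGen_mark hP hK)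
  have ht : c (trivIrr G) = 1 := by
    have h := hc (trivIrr G)
    rw [show ((trivIrr G : Cfsg.IrrCharacter G) : G → ℂ) = fun _ => 1 from rfl, h1] at h
    exact_mod_cast h.symm
  have hsum : ∑ χ, c χ * c χ = 3 := ZStar.Induce.sum_mul_coeffs mark_isClassFunction hc hc (z := 3)
    (by rw [classInner_mark_self, h1]; norm_num)
  obtain ⟨x, y, hx, hy, hxy, hcx, hcy, h0⟩ := exists_two_signs ht hsum
  exact ⟨⟨x, y, c x, c y, hcx, hcy, hx, hy, hxy, h1, hc x, hc y,
    fun ψ a b d => by rw [hc, h0 ψ a b d, Int.cast_zero]⟩⟩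

namespace Pair

variable (D : Pair P K)
include D

/-- Exchange the two constituents. -/
def swap : Pair P K :=
  ⟨D.ξ, D.χ, D.δ, D.ε, D.hδ, D.hε, D.ξ_ne, D.χ_ne, D.ne.symm, D.one, D.inner_ξ, D.inner_χ,
    fun ψ a b c => D.other ψ a c b⟩

theorem value (g : G) :
    mark P K g = 1 + (D.ε : ℂ) * (D.χ : G → ℂ) g + (D.δ : ℂ) * (D.ξ : G → ℂ) g := by
  haveI := Fintype.ofFinite (Cfsg.IrrCharacter G)
  conv_lhs => rw [classFun_eq_sum (mark_isClassFunction (P := P) (K := K))]
  simp only [Finset.sum_apply, Pi.smul_apply, smul_eq_mul]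
  rw [← Finset.sum_subset (Finset.subset_univ {trivIrr G, D.χ, D.ξ}) fun ψ _ hψ => ?_]
  · rw [Finset.sum_insert (by simp [D.χ_ne.symm, D.ξ_ne.symm]), Finset.sum_pair D.ne, D.one,
      D.inner_χ, D.inner_ξ, trivIrr_coe]
    ring
  · simp only [Finset.mem_insert, Finset.mem_singleton, not_or] at hψ
    rw [D.other ψ hψ.1 hψ.2.1 hψ.2.2, zero_mul]

theorem deg_rel : 1 + D.ε * (deg D.χ : ℤ) + D.δ * (deg D.ξ : ℤ) = 0 := by
  have h := D.value 1
  rw [mark_regular (by simp), ← deg_cast, ← deg_cast] at h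
  have h' : ((1 + D.ε * (deg D.χ : ℤ) + D.δ * (deg D.ξ : ℤ) : ℤ) : ℂ) = ((0 : ℤ) : ℂ) := by
    push_cast
    exact h.symm
  exact_mod_cast h'

theorem deg_ne : deg D.χ ≠ deg D.ξ := by
  intro e
  have h := D.deg_rel
  rw [e] at h
  rcases D.hε with e1 | e1 <;> rcases D.hδ with e2 | e2 <;> rw [e1, e2] at h <;> omega

theorem int_valued (hP : Nat.card (P : Subgroup G) = 9) (hK : Line P K) (g : G) :
    ∃ k : ℤ, (D.χ : G → ℂ) g = (k : ℂ) := by
  refine exists_int_of_pow_fixed (irr_isCharacter D.χ) fun m hm => ?_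
  set ψ : Cfsg.IrrCharacter G :=
    ⟨fun g => (D.χ : G → ℂ) (g ^ m), OddChar.PowTwist.isIrr_comp_pow D.χ.2 hm⟩ with hψ
  have hval : ∀ g, (ψ : G → ℂ) g = (D.χ : G → ℂ) (g ^ m) := fun g => rfl
  have hinner : Cfsg.classInner (mark P K) (ψ : G → ℂ) = (D.ε : ℂ) := by
    rw [← D.inner_χ, classInner_def, classInner_def]
    congr 1
    refine Fintype.sum_equiv (powCoprime (G := G) hm.symm) _ _ fun g => ?_
    show mark P K g * conj ((ψ : G → ℂ) g) = mark P K (g ^ m) * conj ((D.χ : G → ℂ) (g ^ m))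
    rw [mark_pow hP hK hm, hval]
  have hdeg : deg ψ = deg D.χ := by
    have : (deg ψ : ℂ) = deg D.χ := by rw [deg_cast, deg_cast, hval, one_pow]
    exact_mod_cast this
  have h1 : ψ = D.χ := by
    by_contra h
    by_cases ht : ψ = trivIrr G
    · refine D.χ_ne (Subtype.ext (funext fun x => ?_))
      obtain ⟨y, rfl⟩ := (powCoprime (G := G) hm.symm).surjective x
      have := hval y
      rw [ht] at this
      exact this.symm
    by_cases hx : ψ = D.ξ
    · exact D.deg_ne (by rw [← hdeg, hx])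
    rw [D.other ψ ht h hx] at hinner
    rcases D.hε with e | e <;> rw [e] at hinner <;> simp at hinner
  rw [← hval, h1]

theorem int_valued' (hP : Nat.card (P : Subgroup G) = 9) (hK : Line P K) (g : G) :
    ∃ k : ℤ, (D.ξ : G → ℂ) g = (k : ℂ) := D.swap.int_valued hP hK g

theorem classInner_right (F : G → ℂ) :
    Cfsg.classInner F (mark P K) = Cfsg.classInner F (trivIrr G : G → ℂ) +
      (D.ε : ℂ) * Cfsg.classInner F (D.χ : G → ℂ) + (D.δ : ℂ) * Cfsg.classInner F (D.ξ : G → ℂ) := by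
  simp only [classInner_def, Finset.mul_sum, ← Finset.sum_add_distrib]
  refine Finset.sum_congr rfl fun g _ => ?_
  rw [D.value g, map_add, map_add, map_mul, map_mul, map_intCast, map_intCast, trivIrr_coe]
  simp only [map_one]
  ring

end Pair

theorem conj_sec (c g : G) : conj (sec c g) = sec c g := by
  unfold sec; split_ifs <;> simp

/-- Outside the principal block the sums over sections vanish. -/
theorem sum_sec_eq_zero {M : Ideal Cfsg.AlgInt} (hM : Cfsg.IsPModular 3 M) {c : G}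
    (hc : ∃ k : ℕ, orderOf c = 3 ^ k) {χ : Cfsg.IrrCharacter G}
    (hχ : χ ∉ Cfsg.principalBlock M G) :
    ∑ g : G, sec c g * conj ((χ : G → ℂ) g) = 0 := by
  have h := sum_sec hc (irr_isClassFunction χ)
  rw [ZStar.Sections.sum_commute_eq_regSum, ZStar.Principal.regSum_shift_one hM hc hχ, mul_zero,
    mul_eq_zero] at h
  have h0 := h.resolve_left (Nat.cast_ne_zero.2 (Nat.card_pos (α := centralizer ({c} : Set G))).ne')
  have h2 := congrArg conj h0
  rw [map_sum, map_zero] at h2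
  rw [← h2]
  exact Finset.sum_congr rfl fun g _ => by rw [map_mul, conj_sec]

theorem mem_principal {M : Ideal Cfsg.AlgInt} (hM : Cfsg.IsPModular 3 M)
    (hP : Nat.card (P : Subgroup G) = 9) (hK : Line P K) {ι : Type v} [Fintype ι] {c : ι → G}
    (hc : Reps P K c) {χ : Cfsg.IrrCharacter G}
    (hne : Cfsg.classInner (mark P K) (χ : G → ℂ) ≠ 0) : χ ∈ Cfsg.principalBlock M G := by
  by_contra hχ
  refine hne ?_
  rw [classInner_mark hP hK hc, Finset.sum_eq_zero fun i _ =>
    sum_sec_eq_zero hM (orderOf_three_pow (hc.mem i).1) hχ, mul_zero]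

/-- In the principal block the values are constant on the section of a rigid element. -/
theorem value_section {M : Ideal Cfsg.AlgInt} (hM : Cfsg.IsPModular 3 M)
    (hP : Nat.card (P : Subgroup G) = 9) {c : G} (hc : c ∈ (P : Subgroup G)) (hr : Rigid P c)
    {χ : Cfsg.IrrCharacter G} (hχ : χ ∈ Cfsg.principalBlock M G) (s : G) (hcs : Commute c s)
    (hs : ¬ 3 ∣ orderOf s) : (χ : G → ℂ) (c * s) = (χ : G → ℂ) c := by
  obtain ⟨W, hWn, hW, hmem, -⟩ := exists_complement hP hc hr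
  exact ZStar.Principal.value_mul_of_mem hM (orderOf_three_pow hc) hχ hW
    (v := ⟨s, mem_centralizer_singleton_iff.2 hcs.eq.symm⟩)
    ((hmem _).2 (by rwa [← orderOf_coe]))

theorem cong_deg {M : Ideal Cfsg.AlgInt} (hM : Cfsg.IsPModular 3 M)
    {c : G} (hc : c ∈ (P : Subgroup G)) (χ : Cfsg.IrrCharacter G) {u : ℤ}
    (hu : (χ : G → ℂ) c = (u : ℂ)) : (3 : ℤ) ∣ u - (deg χ : ℤ) := by
  obtain ⟨k, hk⟩ := orderOf_three_pow hc
  have h := char_cong_of_commute hM χ (Commute.one_right c) (k := k)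
    (by rw [← hk, pow_orderOf_eq_one]) (y := 1) (by simp)
  rw [mul_one, hu, ← deg_cast] at h
  exact (ideal_intCast_iff hM (u - (deg χ : ℤ))).1 (by push_cast; exact h)

end Cfsg.Agent.NineSection
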