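import Mathlib
import Cfsg.Agent.Lib.NineSection.Constituents

/-!
# The degrees of the two constituents are prime to three
-/

set_option autoImplicit false
set_option linter.style.haveILetI false
set_option linter.unusedSectionVars false

namespace Cfsg.Agent.NineSection

open Subgroup Cfsg.Agent.Blocks Cfsg.Agent.Characters
open Cfsg.Agent.PrimeBlock (deg deg_cast)
open scoped ComplexConjugate Classical

universe u

variable {G : Type u} [Group G] [Finite G] {P : Sylow 3 G}

theorem line_zpowers {a : G} (ha : a ∈ (P : Subgroup G)) (hao : orderOf a = 3)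
    (hs : ∀ n ∈ normalizer ((P : Subgroup G) : Set G), n * a * n⁻¹ = a ∨ n * a * n⁻¹ = a⁻¹) :
    Line P (zpowers a) where
  le := zpowers_le.2 ha
  card := by rw [Nat.card_zpowers, hao]
  inv := fun n hn x hx => by
    obtain ⟨k, rfl⟩ := mem_zpowers_iff.1 hx
    rw [← conj_zpow]
    rcases hs n hn with h | h <;> rw [h]
    · exact zpow_mem (mem_zpowers a) k
    · exact zpow_mem (inv_mem (mem_zpowers a)) k

variable [Fintype G]

/-- The sum of `F` over a section, as the rigid value. -/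
theorem sum_sec_value {M : Ideal Cfsg.AlgInt} (hM : Cfsg.IsPModular 3 M)
    (hP : Nat.card (P : Subgroup G) = 9) {c : G} (hc : c ∈ (P : Subgroup G)) (hr : Rigid P c)
    {χ : Cfsg.IrrCharacter G} (hχ : χ ∈ Cfsg.principalBlock M G) {u : ℤ}
    (hu : (χ : G → ℂ) c = (u : ℂ)) :
    9 * ∑ g : G, sec c g * conj ((χ : G → ℂ) g) = (Nat.card G : ℂ) * (u : ℂ) := by
  have hcl : Cfsg.IsClassFunction G (fun g => conj ((χ : G → ℂ) g)) := fun g h => by
    show conj ((χ : G → ℂ) (h * g * h⁻¹)) = conj ((χ : G → ℂ) g)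
    rw [irr_isClassFunction χ g h]
  refine sum_sec_rigid hP hc hr hcl fun s hcs hs => ?_
  rw [value_section hM hP hc hr hχ s hcs hs, hu, map_intCast]

theorem sum_off (P : Sylow 3 G) (K : Subgroup G) (F : G → ℂ) :
    ∑ g : G, mark P K g * F g = 3 * ∑ g ∈ Finset.univ.filter (fun g => Off P K g), F g := by
  rw [Finset.mul_sum, Finset.sum_filter]
  refine Finset.sum_congr rfl fun g _ => ?_
  unfold mark
  split_ifs <;> simp

theorem not_dvd_deg_uniform {M : Ideal Cfsg.AlgInt} (hM : Cfsg.IsPModular 3 M)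
    (hP : Nat.card (P : Subgroup G) = 9) {K : Subgroup G} (hK : Line P K) {c : Fin 3 → G}
    (hc : Reps P K c) (hr : ∀ i, Rigid P (c i)) (D : Pair P K) : ¬ 3 ∣ deg D.χ := by
  intro h3
  choose v hv using D.int_valued hP hK
  have hpr : D.χ ∈ Cfsg.principalBlock M G := mem_principal hM hP hK hc (by
    rw [D.inner_χ]
    rcases D.hε with e | e <;> rw [e] <;> simp)
  have hsum : ∑ i, v (c i) = 3 * D.ε := by
    have h := D.inner_χ
    rw [classInner_mark hP hK hc] at h
    have h' : ∀ i, 9 * ∑ g : G, sec (c i) g * conj ((D.χ : G → ℂ) g) =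
        (Nat.card G : ℂ) * (v (c i) : ℂ) := fun i =>
      sum_sec_value hM hP (hc.mem i).1 (hr i) hpr (hv _)
    have hG : (Nat.card G : ℂ) ≠ 0 := natCard_ne_zero
    have h2 : (Nat.card G : ℂ) * (∑ i, (v (c i) : ℂ)) = (Nat.card G : ℂ) * (3 * (D.ε : ℂ)) := by
      rw [Finset.mul_sum, ← Finset.sum_congr rfl fun i _ => h' i, ← Finset.mul_sum, ← h]
      field_simp
      ring
    have h3' := mul_left_cancel₀ hG h2
    exact_mod_cast h3'
  have hbad : ∀ i, (3 : ℤ) ∣ v (c i) := fun i => by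
    have := cong_deg hM (hc.mem i).1 D.χ (hv (c i))
    have h3' : (3 : ℤ) ∣ (deg D.χ : ℤ) := by exact_mod_cast h3
    simpa using dvd_add this h3'
  -- the norm
  set S := Finset.univ.filter (fun g => Off P K g) with hS
  have hnorm : ∑ g : G, v g * v g = (Nat.card G : ℤ) := by
    have h := classInner_isIrr_self D.χ.2
    rw [classInner_def, inv_mul_eq_iff_eq_mul₀ natCard_ne_zero, mul_one] at h
    simp only [hv, map_intCast] at h
    exact_mod_cast h
  have h1 : (1 : G) ∉ S := by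
    simp only [hS, Finset.mem_filter, Finset.mem_univ, true_and]
    rintro ⟨x, ⟨y, hxy, hc', ⟨k, hk⟩, hy⟩, h, -, hK'⟩
    have hx : Cfsg.IsPPart 3 (1 : G) x := ⟨y, hxy, hc', ⟨k, hk⟩, hy⟩
    have h1 : Cfsg.IsPPart 3 (1 : G) 1 :=
      ⟨1, one_mul 1, Commute.one_left 1, ⟨0, by simp⟩, by simp⟩
    obtain rfl := ppart_unique Nat.prime_three hx h1
    simp at hK'
  have hle : (deg D.χ : ℤ) * deg D.χ + ∑ g ∈ S, v g * v g ≤ (Nat.card G : ℤ) := by
    have hv1 : v 1 = (deg D.χ : ℤ) := by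
      have := hv 1
      rw [← deg_cast] at this
      exact_mod_cast this.symm
    rw [← hv1, ← Finset.sum_insert (f := fun g => v g * v g) h1, ← hnorm]
    exact Finset.sum_le_univ_sum_of_nonneg fun g => mul_self_nonneg _
  have hsq : 9 * ∑ g ∈ S, v g * v g = (Nat.card G : ℤ) * ∑ i, v (c i) * v (c i) := by
    have hF : Cfsg.IsClassFunction G (fun g => ((v g * v g : ℤ) : ℂ)) := fun g h => by
      simp only [Int.cast_mul, ← hv]
      rw [irr_isClassFunction D.χ g h]
    have hs : ∀ i, 9 * ∑ g : G, sec (c i) g * ((v g * v g : ℤ) : ℂ) =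
        (Nat.card G : ℂ) * ((v (c i) * v (c i) : ℤ) : ℂ) := by
      intro i
      refine sum_sec_rigid hP (hc.mem i).1 (hr i) hF fun s hcs hs => ?_
      simp only [Int.cast_mul, ← hv]
      rw [value_section hM hP (hc.mem i).1 (hr i) hpr s hcs hs]
    have h := sum_off P K (fun g => ((v g * v g : ℤ) : ℂ))
    simp only [mark_eq_sum hP hK hc, mul_assoc, ← Finset.mul_sum, Finset.sum_mul] at h
    rw [Finset.sum_comm] at h
    have h2 := mul_left_cancel₀ (by norm_num : (3 : ℂ) ≠ 0) h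
    have h3' : (((9 : ℤ) * ∑ g ∈ S, v g * v g : ℤ) : ℂ) =
        (((Nat.card G : ℤ) * ∑ i, v (c i) * v (c i) : ℤ) : ℂ) := by
      simp only [Int.cast_mul, Int.cast_sum, Int.cast_natCast, Int.cast_ofNat]
      simp only [Int.cast_mul] at h2 hs
      rw [← h2, Finset.mul_sum, Finset.mul_sum]
      exact Finset.sum_congr rfl fun i _ => hs i
    exact_mod_cast h3'
  have hf : 0 < (deg D.χ : ℤ) := by
    obtain ⟨n, hn, he⟩ := irr_one_pos D.χ.2
    rw [← deg_cast] at he
    have : deg D.χ = n := by exact_mod_cast he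
    rw [this]; exact_mod_cast hn
  have hlt : ∑ i, v (c i) * v (c i) < 9 := by
    by_contra hge
    rw [not_lt] at hge
    have hG : (0 : ℤ) ≤ (Nat.card G : ℤ) := Int.natCast_nonneg _
    nlinarith [mul_le_mul_of_nonneg_left hge hG, mul_pos hf hf]
  obtain ⟨i, hi⟩ : ∃ i, v (c i) ≠ 0 := by
    by_contra h
    push Not at h
    rw [Finset.sum_eq_zero fun i _ => h i] at hsum
    rcases D.hε with e | e <;> omega
  have h9 : 9 ≤ v (c i) * v (c i) := by
    obtain ⟨w, hw⟩ := hbad i
    rw [hw]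
    have hw0 : w ≠ 0 := fun e => hi (by rw [hw, e, mul_zero])
    have := Int.add_one_le_iff.2 (mul_self_pos.2 hw0)
    nlinarith
  have := Finset.single_le_sum (f := fun j => v (c j) * v (c j))
    (fun j _ => mul_self_nonneg _) (Finset.mem_univ i)
  omega

/-- In the uniform case there is a line with both degrees prime to three. -/
theorem exists_datum_uniform [IsSimpleGroup G] (hG : ¬ IsMulCommutative G)
    (hP : Nat.card (P : Subgroup G) = 9) (hU : Uniform P) :
    ∃ (K : Subgroup G) (_ : Line P K) (D : Pair P K), ¬ 3 ∣ deg D.χ ∧ ¬ 3 ∣ deg D.ξ := by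
  haveI : Fact (Nat.Prime 3) := ⟨Nat.prime_three⟩
  obtain ⟨M, hM⟩ := BlockCharsA.DefectZeroVanish.exists_modular Nat.prime_three
  have hrig : ∀ c ∈ (P : Subgroup G), c ≠ 1 → Rigid P c := by
    intro c hc hc1 n hn h
    refine (hU n hn).resolve_right fun hinv => hc1 ?_
    have h2 := hinv c hc
    rw [h] at h2
    have h3 : c ^ 2 = 1 := by rw [pow_two]; nth_rw 1 [h2]; rw [inv_mul_cancel]
    obtain ⟨k, hk⟩ := orderOf_three_pow hc
    have h4 := orderOf_dvd_of_pow_eq_one h3
    rw [← orderOf_eq_one_iff]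
    exact Nat.eq_one_of_dvd_coprimes (Nat.Coprime.pow_left k (by norm_num : Nat.Coprime 3 2))
      (hk ▸ dvd_rfl) h4
  obtain ⟨⟨k, hkP⟩, hko⟩ := exists_prime_orderOf_dvd_card' (G := (P : Subgroup G)) 3
    (by rw [hP]; norm_num)
  rw [← orderOf_coe] at hko
  have hsk : ∀ n ∈ normalizer ((P : Subgroup G) : Set G), n * k * n⁻¹ = k ∨ n * k * n⁻¹ = k⁻¹ :=
    fun n hn => (hU n hn).imp (fun h => h k hkP) (fun h => h k hkP)
  have hK := line_zpowers hkP hko hsk
  obtain ⟨c, hc, hcK⟩ : ∃ c ∈ (P : Subgroup G), c ∉ zpowers k := by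
    by_contra h
    push Not at h
    have := card_le_of_le h
    rw [hP, Nat.card_zpowers, hko] at this
    norm_num at this
  have hc9 : c ^ 9 = 1 := by
    have h := pow_card_eq_one' (G := (P : Subgroup G)) (x := ⟨c, hc⟩)
    rw [hP] at h
    exact congrArg Subtype.val h
  have hc2 : c ^ 2 ∉ zpowers k := fun h => hcK (by
    have h5 := pow_mem h 5
    rw [← pow_mul, show 2 * 5 = 9 + 1 by norm_num, pow_add, hc9, one_mul, pow_one] at h5
    exact h5)
  have hbij : Function.Bijective (fun ji : Fin 3 × Fin 3 =>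
      (⟨c ^ (ji.1 : ℕ) * k ^ (ji.2 : ℕ), mul_mem (pow_mem hc _) (pow_mem hkP _)⟩ :
        (P : Subgroup G))) := by
    rw [Nat.bijective_iff_injective_and_card]
    refine ⟨fun x y h => ?_, by rw [hP]; simp⟩
    have h' : c ^ (x.1 : ℕ) * k ^ (x.2 : ℕ) = c ^ (y.1 : ℕ) * k ^ (y.2 : ℕ) :=
      congrArg Subtype.val h
    have hsame : ∀ (p q : Fin 3) (s t : ℕ), (p : ℕ) ≤ q → c ^ (p : ℕ) * k ^ s = c ^ (q : ℕ) * k ^ t →
        p = q := by
      intro p q s t hle he
      obtain ⟨e, hpq⟩ := Nat.le.dest hle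
      rw [← hpq, pow_add, mul_assoc] at he
      have h2 := mul_left_cancel he
      have hmem : c ^ e ∈ zpowers k := by
        rw [eq_mul_inv_of_mul_eq h2.symm]
        exact mul_mem (pow_mem (mem_zpowers k) _) (inv_mem (pow_mem (mem_zpowers k) _))
      have := q.isLt
      obtain rfl | rfl | rfl : e = 0 ∨ e = 1 ∨ e = 2 := by omega
      · exact Fin.ext (by omega)
      · exact absurd (by simpa using hmem) hcK
      · exact absurd hmem hc2
    have h1 : x.1 = y.1 := by
      rcases le_total (x.1 : ℕ) (y.1 : ℕ) with hle | hle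
      · exact hsame _ _ _ _ hle h'
      · exact (hsame _ _ _ _ hle h'.symm).symm
    refine Prod.ext h1 (Fin.ext ?_)
    rw [h1] at h'
    have h2 := mul_left_cancel h'
    rw [pow_eq_pow_iff_modEq, hko] at h2
    exact Nat.ModEq.eq_of_lt_of_lt h2 x.2.isLt y.2.isLt
  have hc3 : c ^ 3 ∈ zpowers k := by
    obtain ⟨⟨j, i⟩, h⟩ := hbij.2 ⟨c ^ 3, pow_mem hc 3⟩
    have h' : c ^ (j : ℕ) * k ^ (i : ℕ) = c ^ 3 := congrArg Subtype.val h
    have := j.isLt
    obtain hj | hj | hj : (j : ℕ) = 0 ∨ (j : ℕ) = 1 ∨ (j : ℕ) = 2 := by omega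
    · rw [← h', hj, pow_zero, one_mul]; exact pow_mem (mem_zpowers k) _
    · rw [hj, pow_one, pow_succ' c 2] at h'
      exact absurd (mul_left_cancel h' ▸ pow_mem (mem_zpowers k) _) hc2
    · rw [hj, pow_succ c 2] at h'
      exact absurd (mul_left_cancel h' ▸ pow_mem (mem_zpowers k) _) hcK
  obtain ⟨w, hw, hwc⟩ : ∃ w ∈ normalizer ((P : Subgroup G) : Set G),
      ∀ x ∈ (P : Subgroup G), w * x * w⁻¹ = x⁻¹ := by
    by_contra h
    push Not at h
    refine hcK ((eq_one_of_fixed hG hP hc fun n hn => ?_) ▸ one_mem _)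
    refine ((hU n hn).resolve_right fun hi => ?_) c hc
    obtain ⟨x, hx, hne⟩ := h n hn
    exact hne (hi x hx)
  let r : Fin 3 → G := fun i => c * k ^ (i : ℕ)
  have hrP : ∀ i, r i ∈ (P : Subgroup G) := fun i => mul_mem hc (pow_mem hkP _)
  have hR : Reps P (zpowers k) r := by
    refine ⟨fun i => ⟨hrP i, fun h => hcK ?_⟩, fun x hx hxK => ?_, fun i j hij => ?_⟩
    · exact ((zpowers k).mul_mem_cancel_right (pow_mem (mem_zpowers k) _)).1 h
    · obtain ⟨⟨j, i⟩, h⟩ := hbij.2 ⟨x, hx⟩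
      have h' : c ^ (j : ℕ) * k ^ (i : ℕ) = x := congrArg Subtype.val h
      have := j.isLt
      obtain hj | hj | hj : (j : ℕ) = 0 ∨ (j : ℕ) = 1 ∨ (j : ℕ) = 2 := by omega
      · rw [hj, pow_zero, one_mul] at h'
        exact absurd (h' ▸ pow_mem (mem_zpowers k) _) hxK
      · exact ⟨i, by rw [← h', hj, pow_one]⟩
      · have hm : c⁻¹ * x⁻¹ ∈ zpowers k := by
          rw [← h', hj, mul_inv_rev, ← mul_assoc, (((sylow_comm hP hc (pow_mem hkP (i : ℕ))).inv_inv)).eq,
            mul_assoc, ← mul_inv_rev, ← pow_succ]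
          exact mul_mem (inv_mem (pow_mem (mem_zpowers k) _)) (inv_mem hc3)
        rw [← mem_powers_iff_mem_zpowers, mem_powers_iff_mem_range_orderOf, hko] at hm
        obtain ⟨l, hl, hl'⟩ := Finset.mem_image.1 hm
        refine ⟨⟨l, Finset.mem_range.1 hl⟩, isConj_iff.2 ⟨w, ?_⟩⟩
        rw [hwc x hx]
        show x⁻¹ = c * k ^ l
        rw [hl', mul_inv_cancel_left]
    · obtain ⟨n, hn, hne⟩ := conj_of_isConj hP (hrP i) (hrP j) hij
      rcases hU n hn with hf | hi'
      · rw [hf _ (hrP i)] at hne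
        have h2 := mul_left_cancel (a := c) hne
        rw [pow_eq_pow_iff_modEq, hko] at h2
        exact Fin.ext (Nat.ModEq.eq_of_lt_of_lt h2 i.isLt j.isLt)
      · rw [hi' _ (hrP i), inv_eq_iff_mul_eq_one] at hne
        refine absurd ?_ hc2
        have he : c ^ 2 = (k ^ (i : ℕ))⁻¹ * (k ^ (j : ℕ))⁻¹ := by
          rw [← mul_inv_rev]
          refine eq_inv_of_mul_eq_one_left ?_
          rw [← hne, pow_two]
          show _ = c * k ^ (i : ℕ) * (c * k ^ (j : ℕ))
          rw [(((sylow_comm hP hkP hkP).pow_pow (i : ℕ) (j : ℕ))).symm.eq,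
            (sylow_comm hP hc (pow_mem hkP (i : ℕ))).symm.mul_mul_mul_comm]
        rw [he]
        exact mul_mem (inv_mem (pow_mem (mem_zpowers k) _)) (inv_mem (pow_mem (mem_zpowers k) _))
  have hr : ∀ i, Rigid P (r i) := fun i =>
    hrig _ (hrP i) fun e => (hR.mem i).2 (e ▸ one_mem _)
  have h1 : Cfsg.classInner (mark P (zpowers k)) (fun _ => 1) = 1 := by
    rw [classInner_mark hP hK hR]
    simp only [map_one, mul_one]
    have h9 : ∀ i, ∑ g : G, sec (r i) g = (Nat.card G : ℂ) / 9 := fun i => by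
      rw [← sum_sec_one hP (hrP i) (hr i)]; ring
    rw [Finset.sum_congr rfl fun i _ => h9 i, Finset.sum_const, Finset.card_univ, Fintype.card_fin,
      nsmul_eq_mul]
    have hG0 : (Nat.card G : ℂ) ≠ 0 := natCard_ne_zero
    field_simp
    norm_num
  obtain ⟨D⟩ := exists_pair hP hK h1
  exact ⟨_, hK, D, not_dvd_deg_uniform hM hP hK hR hr D, not_dvd_deg_uniform hM hP hK hR hr D.swap⟩

end Cfsg.Agent.NineSection
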