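import Mathlib
import Cfsg.Agent.Lib.NineSection.Degrees

/-!
# The degrees in the split case
-/

set_option autoImplicit false
set_option linter.style.haveILetI false
set_option linter.unusedSectionVars false

namespace Cfsg.Agent.NineSection

open Subgroup Cfsg.Agent.Blocks Cfsg.Agent.Characters
open Cfsg.Agent.PrimeBlock (deg deg_cast)
open scoped ComplexConjugate Classical

universe u

variable {G : Type u} [Group G] [Finite G] {P : Sylow 3 G}

namespace Split

variable {a b : G} (S : Split P a b)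
include S

theorem line : Line P (zpowers a) := line_zpowers S.a_mem S.a_order S.sign_a

theorem pow_mem_zpowers_iff (hP : Nat.card (P : Subgroup G) = 9) {i j : ℕ} :
    a ^ i * b ^ j ∈ zpowers a ↔ j % 3 = 0 := by
  constructor
  · intro h
    rw [← mem_powers_iff_mem_zpowers, mem_powers_iff_mem_range_orderOf] at h
    obtain ⟨l, -, hl⟩ := Finset.mem_image.1 h
    refine (coords_inj hP S.a_mem S.b_mem S.a_order S.b_order S.indep (i := i) (k := l) (l := 0) ?_).2.trans
      rfl
    rw [pow_zero, mul_one, hl]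
  · intro h
    rw [← pow_mod_orderOf b j, S.b_order, h, pow_zero, mul_one]
    exact pow_mem (mem_zpowers a) i

theorem mul_isConj {i j : ℕ} (hi : i % 3 ≠ 0) (hj : j % 3 ≠ 0) :
    IsConj (a ^ i * b ^ j) (a * b) := by
  have key : ∀ i j : ℕ, i < 3 → j < 3 → i ≠ 0 → j ≠ 0 → IsConj (a ^ i * b ^ j) (a * b) := by
    intro i j hi hj hi0 hj0
    obtain ⟨na, -, ha1, ha2⟩ := S.flip_a
    obtain ⟨nb, -, hb1, hb2⟩ := S.flip_b
    have hsa : IsConj (a⁻¹ * b) (a * b) := isConj_iff.2 ⟨na, by
      calc na * (a⁻¹ * b) * na⁻¹ = (na * a * na⁻¹)⁻¹ * (na * b * na⁻¹) := by group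
        _ = a * b := by rw [ha1, ha2, inv_inv]⟩
    have hsb : IsConj (a * b⁻¹) (a * b) := isConj_iff.2 ⟨nb, by
      calc nb * (a * b⁻¹) * nb⁻¹ = (nb * a * nb⁻¹) * (nb * b * nb⁻¹)⁻¹ := by group
        _ = a * b := by rw [hb1, hb2, inv_inv]⟩
    have hsab : IsConj (a⁻¹ * b⁻¹) (a⁻¹ * b) := isConj_iff.2 ⟨nb, by
      calc nb * (a⁻¹ * b⁻¹) * nb⁻¹ = (nb * a * nb⁻¹)⁻¹ * (nb * b * nb⁻¹)⁻¹ := by group
        _ = a⁻¹ * b := by rw [hb1, hb2, inv_inv]⟩
    obtain rfl | rfl : i = 1 ∨ i = 2 := by omega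
    all_goals obtain rfl | rfl : j = 1 ∨ j = 2 := by omega
    · rw [pow_one, pow_one]
    · rw [pow_one, ← inv_eq_sq S.b_order]; exact hsb
    · rw [pow_one, ← inv_eq_sq S.a_order]; exact hsa
    · rw [← inv_eq_sq S.a_order, ← inv_eq_sq S.b_order]; exact hsab.trans hsa
  rw [← pow_mod_orderOf a i, ← pow_mod_orderOf b j, S.a_order, S.b_order]
  exact key _ _ (Nat.mod_lt _ (by norm_num)) (Nat.mod_lt _ (by norm_num)) hi hj

theorem reps (hP : Nat.card (P : Subgroup G) = 9) : Reps P (zpowers a) ![b, a * b] := by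
  refine ⟨fun i => ?_, fun x hx hxK => ?_, fun i j hij => ?_⟩
  · fin_cases i
    · exact ⟨S.b_mem, S.indep⟩
    · refine ⟨S.mul_mem_sylow, fun h => S.indep ?_⟩
      exact ((zpowers a).mul_mem_cancel_left (mem_zpowers a)).1 h
  · obtain ⟨i, j, rfl⟩ := exists_coords hP S.a_mem S.b_mem S.a_order S.b_order S.indep hx
    have hj : (j : ℕ) % 3 ≠ 0 := fun h => hxK ((S.pow_mem_zpowers_iff hP).2 h)
    by_cases hi : (i : ℕ) % 3 = 0
    · refine ⟨0, ?_⟩
      rw [← pow_mod_orderOf a (i : ℕ), S.a_order, hi, pow_zero, one_mul]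
      have := j.isLt
      obtain hj' | hj' : (j : ℕ) = 1 ∨ (j : ℕ) = 2 := by omega
      · rw [hj', pow_one]; exact IsConj.refl _
      · obtain ⟨n, -, -, hn⟩ := S.flip_b
        rw [hj', ← inv_eq_sq S.b_order]
        exact (isConj_iff.2 ⟨n, hn⟩ : IsConj b b⁻¹).symm
    · exact ⟨1, S.mul_isConj hi hj⟩
  · have key : ¬ IsConj b (a * b) := by
      intro h
      obtain ⟨n, hn, he⟩ := conj_of_isConj hP S.b_mem S.mul_mem_sylow h
      rcases S.sign_b n hn with e | e <;> rw [e] at he
      · exact S.a_ne_one (mul_eq_right.1 he.symm)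
      · rw [inv_eq_sq S.b_order] at he
        have := (coords_inj hP S.a_mem S.b_mem S.a_order S.b_order S.indep
          (i := 0) (j := 2) (k := 1) (l := 1) (by simpa using he)).1
        omega
    fin_cases i <;> fin_cases j
    · rfl
    · exact absurd hij key
    · exact absurd hij.symm key
    · rfl

variable [Fintype G]

theorem classInner_mark_one (hP : Nat.card (P : Subgroup G) = 9) :
    Cfsg.classInner (mark P (zpowers a)) (fun _ => 1) = 1 := by
  rw [classInner_mark hP S.line (S.reps hP)]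
  simp only [map_one, mul_one, Fin.sum_univ_two, Matrix.cons_val_zero, Matrix.cons_val_one]
  have h1 : ∑ g : G, sec b g = 2 * (Nat.card G : ℂ) / 9 := by
    rw [← S.symm.sum_sec_line hP]; ring
  have h2 : ∑ g : G, sec (a * b) g = (Nat.card G : ℂ) / 9 := by
    rw [← sum_sec_one hP S.mul_mem_sylow (S.rigid_diag hP)]; ring
  rw [h1, h2]
  have hG0 : (Nat.card G : ℂ) ≠ 0 := natCard_ne_zero
  field_simp
  norm_num

/-- The product of the two marks is nine times the diagonal section. -/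
theorem mark_mul (hP : Nat.card (P : Subgroup G) = 9) (g : G) :
    mark P (zpowers a) g * mark P (zpowers b) g = 9 * sec (a * b) g := by
  obtain ⟨x, hx⟩ := exists_ppart (p := 3) Nat.prime_three g
  obtain ⟨y, -, -, hxo, -⟩ := id hx
  obtain ⟨h, hh⟩ := exists_conj_mem P hxo
  have ha := off_iff hP S.line hx hh
  have hb := off_iff hP S.symm.line hx hh
  have hxc : IsConj x (h * x * h⁻¹) := isConj_iff.2 ⟨h, rfl⟩
  obtain ⟨i, j, hij⟩ := exists_coords hP S.a_mem S.b_mem S.a_order S.b_order S.indep hh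
  have hs : Sec (a * b) g ↔ h * x * h⁻¹ ∉ zpowers a ∧ h * x * h⁻¹ ∉ zpowers b := by
    rw [sec_eq _ _ hx]
    constructor
    · intro hc
      have hc' : IsConj (a * b) (h * x * h⁻¹) := hc.symm.trans hxc
      refine ⟨fun hm => ?_, fun hm => ?_⟩
      · have hm' := conj_mem_line hP S.line hm S.mul_mem_sylow hc'.symm
        exact S.indep (((zpowers a).mul_mem_cancel_left (mem_zpowers a)).1 hm')
      · have hm' := conj_mem_line hP S.symm.line hm S.mul_mem_sylow hc'.symm
        exact S.symm.indep (((zpowers b).mul_mem_cancel_right (mem_zpowers b)).1 hm')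
    · rintro ⟨hna, hnb⟩
      refine hxc.trans ?_
      rw [hij] at hna hnb ⊢
      refine S.mul_isConj (fun hi => hnb ?_) fun hj => hna ((S.pow_mem_zpowers_iff hP).2 hj)
      rw [(sylow_comm hP (pow_mem S.a_mem (i : ℕ)) (pow_mem S.b_mem (j : ℕ))).eq]
      exact (S.symm.pow_mem_zpowers_iff hP).2 hi
  unfold mark sec
  by_cases h1 : h * x * h⁻¹ ∈ zpowers a <;> by_cases h2 : h * x * h⁻¹ ∈ zpowers b <;>
    simp [ha, hb, hs, h1, h2] <;> norm_num

end Split


/-- One line has both degrees prime to three, or a constituent with coefficient two. -/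
theorem line_alternative [Fintype G] [Fintype (Cfsg.IrrCharacter G)] {K : Subgroup G}
    (D : Pair P K) {c : Cfsg.IrrCharacter G → ℤ} (hct : c (trivIrr G) = 1)
    (hsq : ∑ ψ, c ψ * c ψ = 9) (hrel : D.ε * c D.χ + D.δ * c D.ξ = 2)
    (hχ : (3 : ℤ) ∣ c D.χ - (deg D.χ : ℤ)) (hξ : (3 : ℤ) ∣ c D.ξ - (deg D.ξ : ℤ)) :
    (¬ 3 ∣ deg D.χ ∧ ¬ 3 ∣ deg D.ξ) ∨ ∃ D' : Pair P K, c D'.χ = 2 * D'.ε := by
  have hle : c D.χ * c D.χ + c D.ξ * c D.ξ ≤ 8 := by
    have h := Finset.sum_le_univ_sum_of_nonneg (f := fun ψ => c ψ * c ψ)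
      (s := {trivIrr G, D.χ, D.ξ}) fun ψ => mul_self_nonneg _
    rw [Finset.sum_insert (by simp [D.χ_ne.symm, D.ξ_ne.symm]), Finset.sum_pair D.ne, hct, hsq] at h
    linarith
  by_cases hb : c D.χ = 2 * D.ε
  · exact Or.inr ⟨D, hb⟩
  by_cases hb' : c D.ξ = 2 * D.δ
  · exact Or.inr ⟨D.swap, hb'⟩
  left
  have h1 : -2 ≤ c D.χ ∧ c D.χ ≤ 2 := by constructor <;> nlinarith
  have h2 : -2 ≤ c D.ξ ∧ c D.ξ ≤ 2 := by constructor <;> nlinarith
  rcases D.hε with e | e <;> rcases D.hδ with e' | e' <;> rw [e, e'] at hrel <;> rw [e] at hb <;>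
    rw [e'] at hb' <;> omega

/-- Some line has both degrees prime to three. -/
theorem exists_datum_split [Fintype G] (hP : Nat.card (P : Subgroup G) = 9) {a b : G}
    (S : Split P a b) :
    ∃ (K : Subgroup G) (_ : Line P K) (D : Pair P K), ¬ 3 ∣ deg D.χ ∧ ¬ 3 ∣ deg D.ξ := by
  haveI := Fintype.ofFinite (Cfsg.IrrCharacter G)
  obtain ⟨M, hM⟩ := BlockCharsA.DefectZeroVanish.exists_modular Nat.prime_three
  have hG0 : (Nat.card G : ℂ) ≠ 0 := natCard_ne_zero
  set F : G → ℂ := mark P (zpowers a) * mark P (zpowers b) with hFdef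
  have hFg : ∀ g, F g = 9 * sec (a * b) g := fun g => S.mark_mul hP g
  have hgen : Cfsg.IsGeneralizedCharacter G F :=
    isGen_mul (isGen_mark hP S.line) (isGen_mark hP S.symm.line)
  have hcl : Cfsg.IsClassFunction G F := fun g h => by
    rw [hFg, hFg, sec_isClassFunction (a * b) g h]
  obtain ⟨c, hc⟩ := ZStar.Induce.exists_coeffs hgen
  have hinner : ∀ f : G → ℂ, Cfsg.classInner F f =
      9 * (Nat.card G : ℂ)⁻¹ * ∑ g, sec (a * b) g * conj (f g) := by
    intro f
    rw [classInner_def, mul_comm (9 : ℂ), mul_assoc, Finset.mul_sum _ _ (9 : ℂ)]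
    congr 1
    exact Finset.sum_congr rfl fun g _ => by rw [hFg]; ring
  have hsum1 : 9 * ∑ g, sec (a * b) g = (Nat.card G : ℂ) :=
    sum_sec_one hP S.mul_mem_sylow (S.rigid_diag hP)
  have hFone : Cfsg.classInner F (fun _ => 1) = 1 := by
    rw [hinner]
    simp only [map_one, mul_one]
    rw [mul_comm (9 : ℂ), mul_assoc, hsum1, inv_mul_cancel₀ hG0]
  have hct : c (trivIrr G) = 1 := by
    have h := hc (trivIrr G)
    rw [show ((trivIrr G : Cfsg.IrrCharacter G) : G → ℂ) = fun _ => 1 from rfl, hFone] at h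
    exact_mod_cast h.symm
  have hsq : ∑ ψ, c ψ * c ψ = 9 := ZStar.Induce.sum_mul_coeffs hcl hc hc (z := 9) (by
    have h2 : ∀ g, sec (a * b) g * conj (F g) = 9 * sec (a * b) g := fun g => by
      rw [hFg]
      unfold sec
      split_ifs <;> simp [Complex.conj_ofNat]
    rw [hinner, Finset.sum_congr rfl fun g _ => h2 g, ← Finset.mul_sum, hsum1]
    field_simp
    norm_num)
  have hmarka : Cfsg.classInner F (mark P (zpowers a)) = 3 ∧
      Cfsg.classInner F (mark P (zpowers b)) = 3 := by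
    have hmem : ∀ {K : Subgroup G}, a * b ∉ K →
        ∀ g, sec (a * b) g * mark P K g = 3 * sec (a * b) g := by
      intro K hK g
      by_cases hs : Sec (a * b) g
      · obtain ⟨x, hx, hxc⟩ := id hs
        obtain ⟨h, hh⟩ := isConj_iff.1 hxc
        have hoff : Off P K g := ⟨x, hx, h, hh ▸ S.mul_mem_sylow, hh ▸ hK⟩
        simp [sec, mark, hs, hoff]
      · simp [sec, hs]
    have hA : a * b ∉ zpowers a := fun h =>
      S.indep (((zpowers a).mul_mem_cancel_left (mem_zpowers a)).1 h)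
    have hB : a * b ∉ zpowers b := fun h =>
      S.symm.indep (((zpowers b).mul_mem_cancel_right (mem_zpowers b)).1 h)
    constructor <;>
    · rw [hinner]
      simp only [conj_mark]
      first
        | rw [Finset.sum_congr rfl fun g _ => hmem hA g]
        | rw [Finset.sum_congr rfl fun g _ => hmem hB g]
      rw [← Finset.mul_sum]
      linear_combination (3 * (Nat.card G : ℂ)⁻¹) * hsum1 + 3 * inv_mul_cancel₀ hG0
  have hline : ∀ {x y : G} (S' : Split P x y), Cfsg.classInner F (mark P (zpowers x)) = 3 →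
      ∀ D : Pair P (zpowers x), (¬ 3 ∣ deg D.χ ∧ ¬ 3 ∣ deg D.ξ) ∨
        ∃ D' : Pair P (zpowers x), c D'.χ = 2 * D'.ε := by
    intro x y S' h3 D
    refine line_alternative D hct hsq ?_ ?_ ?_
    · rw [D.classInner_right, hc, hc, hc, hct] at h3
      have h' : ((1 + D.ε * c D.χ + D.δ * c D.ξ : ℤ) : ℂ) = ((3 : ℤ) : ℂ) := by
        push_cast at h3 ⊢
        exact h3
      have h'' : (1 + D.ε * c D.χ + D.δ * c D.ξ : ℤ) = 3 := by exact_mod_cast h'
      linarith
    all_goals
    · have key : ∀ D₀ : Pair P (zpowers x), (3 : ℤ) ∣ c D₀.χ - (deg D₀.χ : ℤ) := by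
        intro D₀
        obtain ⟨u, hu⟩ := D₀.int_valued hP S'.line (a * b)
        have hpr : D₀.χ ∈ Cfsg.principalBlock M G :=
          mem_principal hM hP S'.line (S'.reps hP) (by
            rw [D₀.inner_χ]
            rcases D₀.hε with e | e <;> rw [e] <;> simp)
        have hcu : c D₀.χ = u := by
          have h := hc D₀.χ
          have h9 := sum_sec_value hM hP S.mul_mem_sylow (S.rigid_diag hP) hpr hu
          rw [hinner, mul_comm (9 : ℂ), mul_assoc, h9, inv_mul_cancel_left₀ hG0] at h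
          exact_mod_cast h.symm
        rw [hcu]
        exact cong_deg hM S.mul_mem_sylow D₀.χ hu
      first
        | exact key D
        | exact key D.swap
  obtain ⟨Da⟩ := exists_pair hP S.line (S.classInner_mark_one hP)
  obtain ⟨Db⟩ := exists_pair hP S.symm.line (S.symm.classInner_mark_one hP)
  rcases hline S hmarka.1 Da with h | ⟨A, hA⟩
  · exact ⟨_, S.line, Da, h⟩
  rcases hline S.symm hmarka.2 Db with h | ⟨B, hB⟩
  · exact ⟨_, S.symm.line, Db, h⟩
  exfalso
  by_cases hAB : A.χ = B.χ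
  · -- the same constituent in both lines
    have hs : A.ε = B.ε := by
      rw [← hAB, hA] at hB
      linarith
    have hab : Cfsg.classInner (mark P (zpowers a)) (mark P (zpowers b)) = 1 := by
      rw [← hFone, classInner_def, classInner_def]
      congr 1
      exact Finset.sum_congr rfl fun g _ => by
        rw [conj_mark, map_one, mul_one, hFdef, Pi.mul_apply]
    rw [B.classInner_right, A.one, ← hAB, A.inner_χ, ← hs] at hab
    have hε2 : (A.ε : ℂ) * (A.ε : ℂ) = 1 := by
      rcases A.hε with e | e <;> rw [e] <;> simp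
    rw [hε2] at hab
    by_cases hx : B.ξ = A.ξ
    · rw [hx, A.inner_ξ] at hab
      have h' : ((1 + 1 + B.δ * A.δ : ℤ) : ℂ) = ((1 : ℤ) : ℂ) := by
        push_cast
        linear_combination hab
      have h'' : (1 + 1 + B.δ * A.δ : ℤ) = 1 := by exact_mod_cast h'
      have hd := A.deg_rel
      have hd' := B.deg_rel
      rw [← hAB, ← hs, hx] at hd'
      obtain ⟨n, hn, he⟩ := irr_one_pos A.ξ.2
      rw [← deg_cast] at he
      have hn' : deg A.ξ = n := by exact_mod_cast he
      rcases A.hδ with e | e <;> rcases B.hδ with e' | e' <;> rw [e, e'] at h'' <;>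
        rw [e] at hd <;> rw [e'] at hd' <;> omega
    · rw [A.other B.ξ B.ξ_ne (fun e => B.ne (hAB.symm.trans e.symm)) hx, mul_zero] at hab
      norm_num at hab
  · -- two constituents exhaust the norm
    have hnz : ∀ {K : Subgroup G} (D : Pair P K), c D.χ = 2 * D.ε → c D.χ * c D.χ = 4 := by
      intro K D h
      rcases D.hε with e | e <;> rw [h, e] <;> norm_num
    have hne1 := A.χ_ne
    have hne2 := B.χ_ne
    have hrest : ∀ ψ, ψ ∉ ({trivIrr G, A.χ, B.χ} : Finset (Cfsg.IrrCharacter G)) → c ψ = 0 := by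
      intro ψ hψ
      have h := Finset.sum_le_univ_sum_of_nonneg (f := fun φ => c φ * c φ)
        (s := insert ψ {trivIrr G, A.χ, B.χ}) fun φ => mul_self_nonneg _
      rw [Finset.sum_insert hψ, Finset.sum_insert (by simp [hne1.symm, hne2.symm]),
        Finset.sum_pair hAB, hct, hsq, hnz A hA, hnz B hB] at h
      exact mul_self_eq_zero.1 (le_antisymm (by linarith) (mul_self_nonneg _))
    have h0 := ZStar.Induce.value_eq_sum hcl hc 1
    rw [← Finset.sum_subset (Finset.subset_univ {trivIrr G, A.χ, B.χ}) fun ψ _ hψ => by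
      rw [hrest ψ hψ, Int.cast_zero, zero_mul],
      Finset.sum_insert (by simp [hne1.symm, hne2.symm]), Finset.sum_pair hAB, hct, hA, hB,
      ← deg_cast, ← deg_cast, ← deg_cast, PrimeBlock.deg_trivIrr, hFdef, Pi.mul_apply,
      mark_regular (by simp), zero_mul] at h0
    have h' : ((1 + (2 * A.ε * deg A.χ + 2 * B.ε * deg B.χ) : ℤ) : ℂ) = ((0 : ℤ) : ℂ) := by
      push_cast at h0 ⊢
      linear_combination -h0
    have h'' : (1 + (2 * A.ε * deg A.χ + 2 * B.ε * deg B.χ) : ℤ) = 0 := by exact_mod_cast h'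
    have h2 : (2 : ℤ) ∣ 1 := ⟨-(A.ε * deg A.χ + B.ε * deg B.χ), by linarith⟩
    norm_num at h2

/-- A line with two integer-valued constituents of degrees prime to three. -/
theorem exists_datum [IsSimpleGroup G] [Fintype G] (hG : ¬ IsMulCommutative G)
    (hP : Nat.card (P : Subgroup G) = 9)
    (h3 : 3 ≤ Nat.card {C : ConjClasses G // ∃ g ∈ C.carrier, g ≠ 1 ∧ orderOf g ∣ 9}) :
    ∃ (K : Subgroup G) (_ : Line P K) (D : Pair P K), ¬ 3 ∣ deg D.χ ∧ ¬ 3 ∣ deg D.ξ := by
  rcases uniform_or_split hG hP h3 with hU | ⟨a, b, S⟩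
  · exact exists_datum_uniform hG hP hU
  · exact exists_datum_split hP S

end Cfsg.Agent.NineSection
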