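import Mathlib
import Cfsg.Agent.S3784
import Cfsg.Agent.Lib.PrimeBlock.Integer
import Cfsg.Agent.Lib.NineSection.DegreesSplit

/-!
# One constituent has degree the prime, which divides the order once
-/

set_option autoImplicit false
set_option linter.style.haveILetI false
set_option linter.unusedSectionVars false

namespace Cfsg.Agent.NineSection

open Subgroup Cfsg.Agent.Blocks Cfsg.Agent.Characters
open Cfsg.Agent.PrimeBlock (deg deg_cast deg_ne_one value_mem blichfeldt)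

universe u

variable {G : Type u} [Group G] [Finite G]

theorem sylow_card {q a b : ℕ} (hq : q.Prime) (hq3 : q ≠ 3)
    (hcard : Nat.card G = 9 * 2 ^ a * q ^ b) (P : Sylow 3 G) :
    Nat.card (P : Subgroup G) = 9 := by
  haveI : Fact (Nat.Prime 3) := ⟨Nat.prime_three⟩
  rw [P.card_eq_multiplicity, hcard]
  have h2 : ¬ 3 ∣ 2 ^ a * q ^ b := by
    rw [Nat.prime_three.dvd_mul]
    rintro (h | h)
    · have := Nat.prime_three.dvd_of_dvd_pow h; norm_num at this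
    · exact hq3 ((Nat.prime_dvd_prime_iff_eq Nat.prime_three hq).1
        (Nat.prime_three.dvd_of_dvd_pow h)).symm
  have h1 : 2 ^ a * q ^ b ≠ 0 := by have := hq.pos; positivity
  rw [mul_assoc, Nat.factorization_mul (by norm_num) h1, Finsupp.add_apply,
    Nat.factorization_eq_zero_of_not_dvd h2, show (9 : ℕ) = 3 ^ 2 by norm_num,
    Nat.Prime.factorization_pow Nat.prime_three, Finsupp.single_eq_same]

theorem two_lt_of_prime {q : ℕ} (hq : q.Prime) (hq2 : q ≠ 2) : 2 < q := by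
  have := hq.two_le; omega

/-- Consecutive divisors of `2^a q^b`, both above one, are `q` and a power of two. -/
theorem consecutive {q a b n : ℕ} (hq : q.Prime) (hq2 : q ≠ 2) (hq3 : q ≠ 3)
    (hn : 1 < n) (h1 : n ∣ 2 ^ a * q ^ b) (h2 : n + 1 ∣ 2 ^ a * q ^ b) :
    (∃ x, n = 2 ^ x ∧ n + 1 = q) ∨ (∃ x, n + 1 = 2 ^ x ∧ n = q) := by
  obtain ⟨u, v, hu, hv, huv⟩ := exists_dvd_and_dvd_of_dvd_mul h1
  obtain ⟨u', v', hu', hv', huv'⟩ := exists_dvd_and_dvd_of_dvd_mul h2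
  obtain ⟨i, -, rfl⟩ := (Nat.dvd_prime_pow Nat.prime_two).1 hu
  obtain ⟨j, -, rfl⟩ := (Nat.dvd_prime_pow hq).1 hv
  obtain ⟨i', -, rfl⟩ := (Nat.dvd_prime_pow Nat.prime_two).1 hu'
  obtain ⟨j', -, rfl⟩ := (Nat.dvd_prime_pow hq).1 hv'
  have hqj : j = 0 ∨ j' = 0 := by
    by_contra h
    push Not at h
    have e1 : q ∣ n := huv ▸ dvd_mul_of_dvd_right (dvd_pow_self q h.1) _
    have e2 : q ∣ n + 1 := huv' ▸ dvd_mul_of_dvd_right (dvd_pow_self q h.2) _
    exact hq.ne_one (Nat.dvd_one.1 ((Nat.dvd_add_right e1).1 e2))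
  have h2i : i = 0 ∨ i' = 0 := by
    by_contra h
    push Not at h
    have e1 : 2 ∣ n := huv ▸ dvd_mul_of_dvd_left (dvd_pow_self 2 h.1) _
    have e2 : 2 ∣ n + 1 := huv' ▸ dvd_mul_of_dvd_left (dvd_pow_self 2 h.2) _
    omega
  rcases h2i with rfl | rfl
  · have hj : j ≠ 0 := by
      rintro rfl
      simp at huv
      omega
    obtain rfl := hqj.resolve_left hj
    have hi' : 1 ≤ i' := by
      rcases Nat.eq_zero_or_pos i' with rfl | h
      · simp at huv'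
        omega
      · exact h
    simp only [pow_zero, one_mul, mul_one] at huv huv'
    right
    refine ⟨i', huv', ?_⟩
    rcases S3784.result 2 q i' j Nat.prime_two hq hi' (Nat.one_le_iff_ne_zero.2 hj)
      (by rw [← huv, ← huv']) with
      ⟨-, hb, -, -⟩ | ⟨h, -⟩ | ⟨h9, -⟩
    · rw [huv, hb, pow_one]
    · exact absurd h hq2
    · have := Nat.prime_three.dvd_of_dvd_pow (show 3 ∣ 2 ^ i' by rw [h9]; norm_num)
      norm_num at this
  · have hj' : j' ≠ 0 := by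
      rintro rfl
      simp at huv'
      omega
    obtain rfl := hqj.resolve_right hj'
    have hi : 1 ≤ i := by
      rcases Nat.eq_zero_or_pos i with rfl | h
      · simp at huv
        omega
      · exact h
    simp only [pow_zero, one_mul, mul_one] at huv huv'
    left
    refine ⟨i, huv, ?_⟩
    rcases S3784.result q 2 j' i hq Nat.prime_two (Nat.one_le_iff_ne_zero.2 hj') hi
      (by rw [← huv', ← huv]) with
      ⟨h, -⟩ | ⟨-, ha, -, -⟩ | ⟨h9, -⟩
    · exact absurd h hq2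
    · rw [huv', ha, pow_one]
    · exact absurd ((Nat.prime_dvd_prime_iff_eq Nat.prime_three hq).1
        (Nat.prime_three.dvd_of_dvd_pow (show 3 ∣ q ^ j' by rw [h9]; norm_num))).symm hq3

/-- The data found from the sections at three. -/
structure Found (G : Type u) [Group G] [Finite G] (q b : ℕ) where
  ζ : Cfsg.IrrCharacter G
  η : Cfsg.IrrCharacter G
  ζ_ne : ζ ≠ trivIrr G
  η_ne : η ≠ trivIrr G
  int_ζ : ∀ g, ∃ k : ℤ, (ζ : G → ℂ) g = (k : ℂ)
  int_η : ∀ g, ∃ k : ℤ, (η : G → ℂ) g = (k : ℂ)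
  deg_ζ : deg ζ = q
  x : ℕ
  deg_η : deg η = 2 ^ x
  near : q + 1 = 2 ^ x ∨ 2 ^ x + 1 = q
  b_eq : b = 1

/-- An integer-valued character of degree `q` forces `q` to divide the order at most once. -/
theorem exponent_le_one [IsSimpleGroup G] (hG : ¬ IsMulCommutative G) {q : ℕ} (hq : q.Prime)
    {ζ : Cfsg.IrrCharacter G} (hne : ζ ≠ trivIrr G) (hint : ∀ g, ∃ k : ℤ, (ζ : G → ℂ) g = (k : ℂ))
    (hdeg : deg ζ = q) : (Nat.card G).factorization q ≤ 1 := by
  haveI := Fact.mk hq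
  have h := blichfeldt (q := q) ζ {0} (fun g hg ⟨k, hk⟩ => by
    obtain ⟨v, hv⟩ := hint g
    refine ⟨v, ?_, hv⟩
    have hm := value_mem hG hq hne hg hk hv
    rw [Finset.mem_filter, Finset.mem_Ioo, hdeg] at hm
    rw [Finset.mem_singleton]
    have h0 : (q : ℤ) ∣ v := by simpa using dvd_sub (dvd_refl (q : ℤ)) hm.2
    exact Int.eq_zero_of_abs_lt_dvd h0 (abs_lt.2 hm.1))
  rw [Finset.prod_singleton, sub_zero, hdeg] at h
  have h' : q ^ (Nat.card G).factorization q ∣ q ^ 1 := by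
    rw [pow_one]; exact_mod_cast h
  exact (Nat.pow_dvd_pow_iff_le_right hq.one_lt).1 h'

theorem exists_found [IsSimpleGroup G] (hG : ¬ IsMulCommutative G) {q a b : ℕ} (hq : q.Prime)
    (hq2 : q ≠ 2) (hq3 : q ≠ 3) (hcard : Nat.card G = 9 * 2 ^ a * q ^ b)
    (h3 : 3 ≤ Nat.card {C : ConjClasses G // ∃ g ∈ C.carrier, g ≠ 1 ∧ orderOf g ∣ 9}) :
    Nonempty (Found G q b) := by
  classical
  haveI := Fintype.ofFinite G
  haveI : Fact (Nat.Prime 3) := ⟨Nat.prime_three⟩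
  obtain ⟨P⟩ : Nonempty (Sylow 3 G) := inferInstance
  have hP := sylow_card hq hq3 hcard P
  obtain ⟨K, hK, D, hf, hd⟩ := exists_datum hG hP h3
  have hdvd : ∀ χ : Cfsg.IrrCharacter G, ¬ 3 ∣ deg χ → deg χ ∣ 2 ^ a * q ^ b := by
    intro χ hχ
    have h : deg χ ∣ 3 ^ 2 * (2 ^ a * q ^ b) := by
      rw [show (3 : ℕ) ^ 2 * (2 ^ a * q ^ b) = Nat.card G by rw [hcard]; ring]
      exact char_degree_dvd_card χ
    exact ((Nat.prime_three.coprime_iff_not_dvd.2 hχ).pow_left 2).symm.dvd_of_dvd_mul_left h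
  have hgt : ∀ χ : Cfsg.IrrCharacter G, χ ≠ trivIrr G → 1 < deg χ := by
    intro χ hχ
    obtain ⟨n, hn, he⟩ := irr_one_pos χ.2
    rw [← deg_cast] at he
    have hn' : deg χ = n := by exact_mod_cast he
    have := deg_ne_one hG hχ
    omega
  have h1 := hgt _ D.χ_ne
  have h2 := hgt _ D.ξ_ne
  obtain ⟨A, B, hAB, hA, hB, hiA, hiB, hnA, hnB⟩ : ∃ A B : Cfsg.IrrCharacter G,
      deg B = deg A + 1 ∧ ¬ 3 ∣ deg A ∧ ¬ 3 ∣ deg B ∧ (∀ g, ∃ k : ℤ, (A : G → ℂ) g = (k : ℂ)) ∧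
        (∀ g, ∃ k : ℤ, (B : G → ℂ) g = (k : ℂ)) ∧ A ≠ trivIrr G ∧ B ≠ trivIrr G := by
    have hrel := D.deg_rel
    have iχ : ∀ g, ∃ k : ℤ, (D.χ : G → ℂ) g = (k : ℂ) := D.int_valued hP hK
    have iξ : ∀ g, ∃ k : ℤ, (D.ξ : G → ℂ) g = (k : ℂ) := D.int_valued' hP hK
    rcases D.hε with e | e <;> rcases D.hδ with e' | e' <;> rw [e, e'] at hrel
    · omega
    · exact ⟨D.χ, D.ξ, by omega, hf, hd, iχ, iξ, D.χ_ne, D.ξ_ne⟩
    · exact ⟨D.ξ, D.χ, by omega, hd, hf, iξ, iχ, D.ξ_ne, D.χ_ne⟩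
    · omega
  have key : ∀ ζ η : Cfsg.IrrCharacter G, ζ ≠ trivIrr G → η ≠ trivIrr G →
      (∀ g, ∃ k : ℤ, (ζ : G → ℂ) g = (k : ℂ)) → (∀ g, ∃ k : ℤ, (η : G → ℂ) g = (k : ℂ)) →
      deg ζ = q → ∀ x, deg η = 2 ^ x → (q + 1 = 2 ^ x ∨ 2 ^ x + 1 = q) →
      Nonempty (Found G q b) := by
    intro ζ η hζ hη iζ iη hd x hx hnear
    refine ⟨⟨ζ, η, hζ, hη, iζ, iη, hd, x, hx, hnear, ?_⟩⟩
    have hle := exponent_le_one hG hq hζ iζ hd
    have hfac : (Nat.card G).factorization q = b := by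
      have hn : ¬ q ∣ 9 * 2 ^ a := by
        rw [hq.dvd_mul]
        rintro (h | h)
        · exact hq3 ((Nat.prime_dvd_prime_iff_eq hq Nat.prime_three).1
            (hq.dvd_of_dvd_pow (show q ∣ 3 ^ 2 from h)))
        · exact hq2 ((Nat.prime_dvd_prime_iff_eq hq Nat.prime_two).1 (hq.dvd_of_dvd_pow h))
      rw [hcard, Nat.factorization_mul (by positivity) (pow_ne_zero _ hq.ne_zero),
        Finsupp.add_apply, Nat.factorization_eq_zero_of_not_dvd hn,
        Nat.Prime.factorization_pow hq, Finsupp.single_eq_same, zero_add]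
    rw [hfac] at hle
    rcases Nat.eq_zero_or_pos b with hb | hb
    · exfalso
      have h := hdvd ζ (by
        rw [hd]; exact fun h => hq3 ((Nat.prime_dvd_prime_iff_eq Nat.prime_three hq).1 h).symm)
      rw [hd, hb, pow_zero, mul_one] at h
      exact hq2 ((Nat.prime_dvd_prime_iff_eq hq Nat.prime_two).1 (hq.dvd_of_dvd_pow h))
    · omega
  rcases consecutive hq hq2 hq3 (hgt A hnA) (hdvd A hA) (hAB ▸ hdvd B hB) with
    ⟨x, hx, hxq⟩ | ⟨x, hx, hxq⟩
  · exact key B A hnB hnA hiB hiA (by omega) x hx (Or.inr (by omega))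
  · exact key A B hnA hnB hiA hiB hxq x (by omega) (Or.inl (by omega))

end Cfsg.Agent.NineSection
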