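import Mathlib
import Cfsg.Agent.Lib.PrimeBlock.Simple
import Cfsg.Agent.Lib.PrimeBlock.Bound
import Cfsg.Agent.Lib.PrimeBlock.Tools
import Cfsg.Agent.Lib.Characters.Counting

/-!
# Counting products of two conjugate involutions equal to an element of prime order
-/

set_option autoImplicit false
set_option linter.style.haveILetI false
set_option linter.unusedSectionVars false

namespace Cfsg.Agent.NineSection

open Subgroup Cfsg.Agent.Blocks Cfsg.Agent.Characters
open Cfsg.Agent.PrimeBlock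
open scoped ComplexConjugate Classical

universe u

variable {G : Type u} [Group G] [Finite G] {p : ℕ} [Fact p.Prime] {P : Sylow p G}

theorem exists_count (D : PBlock P)
    (hC : Nat.card (centralizer ((P : Subgroup G) : Set G)) = p)
    (ht : trivIrr G ∈ D.X) (hts : D.sgn (trivIrr G) = 1) (he : D.e = 2) {m : ℕ}
    (hcard : Nat.card G = p * m) {η : Cfsg.IrrCharacter G} (hη : η ∈ D.X)
    (hηne : η ≠ trivIrr G) {t : G} {T : Subgroup G} (hT : T ≤ centralizer ({t} : Set G)) {a : ℕ}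
    (hTc : Nat.card T = 2 ^ a) {v : ℤ} (hv : (η : G → ℂ) t = (v : ℂ))
    (htreg : ¬ p ∣ orderOf t) :
    ∃ M : ℕ, 4 ^ a ∣ M ∧
      (M : ℤ) * ((deg η : ℤ) * (1 + D.sgn η * (deg η : ℤ))) =
        (m : ℤ) * (D.sgn η * (v - (deg η : ℤ)) ^ 2) := by
  haveI := Fintype.ofFinite G
  haveI := Fintype.ofFinite (Cfsg.IrrCharacter G)
  have hp : p.Prime := Fact.out
  obtain ⟨x, hx1, hx⟩ := D.exists_ne_one
  have hCx : Nat.card (centralizer ({x} : Set G)) = p := by rw [D.centralizer_eq hx hx1, hC]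
  let S := {y : G // IsConj (t * (y * t * y⁻¹)) x}
  refine ⟨Nat.card S, ?_, ?_⟩
  · -- the free action of `T × T`
    have hTt : ∀ c ∈ T, c * t = t * c := fun c hc => mem_centralizer_singleton_iff.1 (hT hc)
    have hmem : ∀ (c d : T) (y : G), IsConj (t * (y * t * y⁻¹)) x →
        IsConj (t * (((c : G) * y * (d : G)⁻¹) * t * ((c : G) * y * (d : G)⁻¹)⁻¹)) x := by
      intro c d y hy
      refine IsConj.trans (isConj_iff.2 ⟨(c : G)⁻¹, ?_⟩) hy
      have h1 := hTt c c.2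
      have h2 : (d : G)⁻¹ * t * (d : G) = t := by
        rw [mul_assoc, ← hTt d d.2, inv_mul_cancel_left]
      calc (c : G)⁻¹ * (t * ((c : G) * y * (d : G)⁻¹ * t * ((c : G) * y * (d : G)⁻¹)⁻¹)) * (c : G)⁻¹⁻¹
          = ((c : G)⁻¹ * t * (c : G)) * (y * ((d : G)⁻¹ * t * (d : G)) * y⁻¹) := by group
        _ = t * (y * t * y⁻¹) := by rw [h2, mul_assoc _ t (c : G), ← h1, inv_mul_cancel_left]
    letI act : MulAction (T × T) S :=
      { smul := fun cd y => ⟨(cd.1 : G) * y.1 * (cd.2 : G)⁻¹, hmem cd.1 cd.2 y.1 y.2⟩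
        one_smul := fun y => Subtype.ext (show ((1 : T) : G) * y.1 * ((1 : T) : G)⁻¹ = y.1 by simp)
        mul_smul := fun u w y => Subtype.ext (show ((u.1 * w.1 : T) : G) * y.1 * ((u.2 * w.2 : T) : G)⁻¹ =
          (u.1 : G) * ((w.1 : G) * y.1 * (w.2 : G)⁻¹) * (u.2 : G)⁻¹ by
            rw [Subgroup.coe_mul, Subgroup.coe_mul]; group) }
    have hfree : ∀ y : S, MulAction.stabilizer (T × T) y = ⊥ := by
      intro y
      rw [eq_bot_iff]
      rintro ⟨c, d⟩ hcd
      have he' : (c : G) * y.1 * (d : G)⁻¹ = y.1 := congrArg Subtype.val (MulAction.mem_stabilizer_iff.1 hcd)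
      have hc' : (c : G) = y.1 * (d : G) * y.1⁻¹ := by
        rw [eq_mul_inv_iff_mul_eq]
        exact mul_inv_eq_iff_eq_mul.1 he'
      have h1 : Commute (c : G) t := hTt c c.2
      have h2 : Commute (c : G) (y.1 * t * y.1⁻¹) := by
        rw [hc']
        exact (show Commute (d : G) t from hTt d d.2).map (MulAut.conj y.1).toMonoidHom
      obtain ⟨g, hg⟩ := isConj_iff.1 y.2
      have h3 : g * (c : G) * g⁻¹ ∈ centralizer ({x} : Set G) := by
        rw [mem_centralizer_singleton_iff, ← hg]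
        exact (h1.mul_right h2).map (MulAut.conj g).toMonoidHom
      have h4 : orderOf (c : G) ∣ p := by
        rw [← BlockCharsA.RegularPart.orderOf_conj' (g := (c : G)) (h := g), ← hCx]
        exact Subgroup.orderOf_dvd_natCard _ h3
      have h5 : orderOf (c : G) ∣ 2 ^ a := hTc ▸ Subgroup.orderOf_dvd_natCard _ c.2
      have hc1 : (c : G) = 1 := orderOf_eq_one_iff.1 (Nat.eq_one_of_dvd_coprimes
        ((Nat.coprime_primes hp Nat.prime_two).2 D.odd |>.pow_right a) h4 h5)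
      have hd1 : (d : G) = 1 := by
        rw [hc1, one_mul] at he'
        simpa using mul_inv_eq_iff_eq_mul.1 he'
      exact Prod.ext (Subtype.ext hc1) (Subtype.ext hd1)
    refine ⟨Nat.card (Quotient (MulAction.orbitRel (T × T) S)), ?_⟩
    rw [Nat.card_congr (MulAction.selfEquivOrbitsQuotientProd hfree), Nat.card_prod, Nat.card_prod,
      hTc, ← mul_pow, mul_comm]
    norm_num
  -- the character sum
  have hval : ∀ y : G, (if IsConj (t * (y * t * y⁻¹)) x then (p : ℂ) else 0) =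
      ∑ χ : Cfsg.IrrCharacter G, (χ : G → ℂ) (t * (y * t * y⁻¹)) * conj ((χ : G → ℂ) x) := fun y => by
    rw [second_orthogonality, hCx]
    split_ifs <;> rfl
  have h1 := Finset.sum_congr (s₁ := (Finset.univ : Finset G)) rfl fun y _ => hval y
  rw [← Finset.sum_filter, Finset.sum_const, nsmul_eq_mul, Finset.sum_comm,
    Finset.sum_congr rfl fun χ _ => by rw [← Finset.sum_mul, sum_mul_conjugates χ.2]] at h1
  rw [show (Finset.univ.filter fun y => IsConj (t * (y * t * y⁻¹)) x).card = Nat.card S by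
    rw [Nat.card_eq_fintype_card, Fintype.card_subtype]] at h1
  -- only the block contributes
  rw [← Finset.sum_subset (Finset.subset_univ (D.X ∪ D.Y)) (fun χ _ hχ => by
    rw [D.eq_zero_of_notMem hC (fun h => hχ (Finset.mem_union.2 ((D.mem_block χ).1 h))) hx hx1,
      map_zero, mul_zero]), Finset.sum_union D.disj] at h1
  have hX : D.X = {trivIrr G, η} := by
    refine (Finset.eq_of_subset_of_card_le ?_ ?_).symm
    · intro χ hχ
      rcases Finset.mem_insert.1 hχ with rfl | h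
      · exact ht
      · rw [Finset.mem_singleton.1 h]; exact hη
    · rw [D.card_X, he, Finset.card_pair hηne.symm]
  obtain ⟨θ, hθ⟩ := D.Y_nonempty
  have hYsum : ∑ χ ∈ D.Y, (Nat.card G : ℂ) * (χ : G → ℂ) t * (χ : G → ℂ) t / (χ : G → ℂ) 1 *
      conj ((χ : G → ℂ) x) =
      (Nat.card G : ℂ) * (θ : G → ℂ) t * (θ : G → ℂ) t / (deg θ : ℂ) * (-(D.ε : ℂ)) := by
    have h := congrArg conj (D.sum_Y hx hx1)
    rw [map_sum, map_neg, map_intCast] at h
    rw [← h, Finset.mul_sum]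
    refine Finset.sum_congr rfl fun χ hχ => ?_
    rw [D.same χ hχ θ hθ t htreg, ← deg_cast, D.deg_Y_eq hχ hθ]
  rw [hYsum, hX, Finset.sum_pair hηne.symm] at h1
  simp only [trivIrr_coe, map_one, mul_one, div_one] at h1
  rw [D.val_X' hη hx hx1, map_intCast, hv, ← deg_cast] at h1
  have hrt : (D.ε : ℂ) * (θ : G → ℂ) t = 1 + (D.sgn η : ℂ) * (v : ℂ) := by
    rw [D.rel θ hθ t htreg, hX, Finset.sum_pair hηne.symm, hts, hv]
    simp
  have hr1 : (D.ε : ℂ) * (deg θ : ℂ) = 1 + (D.sgn η : ℂ) * (deg η : ℂ) := by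
    have h := D.rel_one hθ
    rw [hX, Finset.sum_pair hηne.symm, hts, deg_trivIrr] at h
    have h' : (((D.ε * (deg θ : ℤ) : ℤ)) : ℂ) = ((1 * ((1 : ℕ) : ℤ) + D.sgn η * (deg η : ℤ) : ℤ) : ℂ) := by
      rw [h]
    push_cast at h'
    linear_combination h'
  have hd0 : (deg θ : ℂ) ≠ 0 := Nat.cast_ne_zero.2 (charDegree_pos θ).ne'
  have hf0 : (deg η : ℂ) ≠ 0 := Nat.cast_ne_zero.2 (charDegree_pos η).ne'
  have hε : (D.ε : ℂ) * (D.ε : ℂ) = 1 := by
    rcases D.ε_eq with e | e <;> rw [e] <;> simp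
  have hs : (D.sgn η : ℂ) * (D.sgn η : ℂ) = 1 := by
    rcases D.sgn_eq η hη with e | e <;> rw [e] <;> simp
  have hp0 : (p : ℂ) ≠ 0 := Nat.cast_ne_zero.2 hp.ne_zero
  rw [hcard, Nat.cast_mul] at h1
  set f : ℂ := (deg η : ℂ)
  set d : ℂ := (deg θ : ℂ)
  set w : ℂ := (θ : G → ℂ) t
  set s : ℂ := (D.sgn η : ℂ)
  set E : ℂ := (D.ε : ℂ)
  have h2 : (Nat.card S : ℂ) * (p : ℂ) * (f * d) =
      (p : ℂ) * (m : ℂ) * (f * d + s * (v : ℂ) ^ 2 * d - E * w ^ 2 * f) := by
    rw [h1]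
    field_simp
    ring
  have h3 : (Nat.card S : ℂ) * (f * (1 + s * f)) = (m : ℂ) * (s * ((v : ℂ) - f) ^ 2) := by
    refine mul_left_cancel₀ hp0 ?_
    rw [← hr1]
    have hw2 : E * w ^ 2 * E = (1 + s * (v : ℂ)) ^ 2 := by rw [← hrt]; ring
    linear_combination E * h2 + (p : ℂ) * (m : ℂ) * (f + s * (v : ℂ) ^ 2) * hr1 -
      (p : ℂ) * (m : ℂ) * f * hw2
  have h4 : (((Nat.card S : ℤ) * ((deg η : ℤ) * (1 + D.sgn η * (deg η : ℤ))) : ℤ) : ℂ) =
      (((m : ℤ) * (D.sgn η * (v - (deg η : ℤ)) ^ 2) : ℤ) : ℂ) := by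
    push_cast
    exact h3
  exact_mod_cast h4

end Cfsg.Agent.NineSection
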