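import Mathlib
import Cfsg.Agent.S0496
import Cfsg.Agent.S0904
import Cfsg.Agent.Lib.PrimeBlock.ThreePrimes
import Cfsg.Agent.Lib.NineSection.Arith
import Cfsg.Agent.Lib.NineSection.Count

/-!
# The primes five and seven
-/

set_option autoImplicit false
set_option linter.style.haveILetI false
set_option linter.unusedSectionVars false

namespace Cfsg.Agent.NineSection

open Subgroup Cfsg.Agent.Blocks Cfsg.Agent.Characters
open Cfsg.Agent.PrimeBlock

universe u

variable {G : Type u} [Group G] [Finite G] [IsSimpleGroup G]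

theorem block_setup (hG : ¬ IsMulCommutative G) {q a : ℕ} [Fact q.Prime] (hq2 : q ≠ 2)
    (hq3 : q ≠ 3) (hcard : Nat.card G = 9 * 2 ^ a * q) :
    ∃ (P : Sylow q G) (D : PBlock P), Nat.card (centralizer ((P : Subgroup G) : Set G)) = q ∧
      1 < D.e ∧ 9 * 2 ^ a ≡ D.e [MOD q] := by
  have hq : q.Prime := Fact.out
  have hm : ¬ q ∣ 9 * 2 ^ a := by
    rw [hq.dvd_mul]
    rintro (h | h)
    · exact hq3 ((Nat.prime_dvd_prime_iff_eq hq Nat.prime_three).1
        (hq.dvd_of_dvd_pow (show q ∣ 3 ^ 2 from h)))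
    · exact hq2 ((Nat.prime_dvd_prime_iff_eq hq Nat.prime_two).1 (hq.dvd_of_dvd_pow h))
  obtain ⟨P, D, he⟩ := exists_pblock_simple hG (m := 9 * 2 ^ a) (by rw [hcard]; ring) hm
  have hC := S0904.result 3 2 q 2 a Nat.prime_three Nat.prime_two (by norm_num)
    (Ne.symm hq3) (Ne.symm hq2) (by rw [hcard]; norm_num) P
  have hC' : centralizer ((P : Subgroup G) : Set G) = (P : Subgroup G) := hC
  have hCc : Nat.card (centralizer ((P : Subgroup G) : Set G)) = q := by rw [hC', D.card_P]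
  refine ⟨P, D, hCc, he, ?_⟩
  have h1 := relIndex_mul_relIndex ⊥ (centralizer ((P : Subgroup G) : Set G))
    (normalizer ((P : Subgroup G) : Set G)) bot_le (centralizer_le_normalizer _)
  rw [relIndex_bot_left, relIndex_bot_left, hCc, D.he] at h1
  have h2 : Nat.card (Sylow q G) * (q * D.e) = Nat.card G := by
    rw [h1, Sylow.card_eq_index_normalizer P]
    exact Subgroup.index_mul_card _
  have h3 : Nat.card (Sylow q G) * D.e = 9 * 2 ^ a := by
    refine Nat.eq_of_mul_eq_mul_left hq.pos ?_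
    rw [← mul_assoc, mul_comm q, mul_assoc, h2, hcard, mul_comm]
  have h4 := (card_sylow_modEq_one q G).mul_right D.e
  rw [one_mul, h3] at h4
  exact h4

/-- With inertial index two the power of two in the order is small. -/
theorem four_pow_dvd (hG : ¬ IsMulCommutative G) {q a : ℕ} [Fact q.Prime] (hq2 : q ≠ 2)
    (hq3 : q ≠ 3)
    (hcard : Nat.card G = 9 * 2 ^ a * q) (ha : 1 ≤ a) {P : Sylow q G} (D : PBlock P)
    (hC : Nat.card (centralizer ((P : Subgroup G) : Set G)) = q) (he : D.e = 2)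
    {η : Cfsg.IrrCharacter G} (hη : η ≠ trivIrr G) {f : ℕ} (hf : deg η = f) (hqf : ¬ q ∣ f)
    (hY : ¬ (f : ℤ) ≡ 2 [ZMOD q] ∧ ¬ (f : ℤ) ≡ -2 [ZMOD q]) :
    ∃ (s v : ℤ) (M : ℕ), (s = 1 ∨ s = -1) ∧ (f : ℤ) ≡ s [ZMOD q] ∧ (4 : ℤ) ∣ (f : ℤ) - v ∧
      |v| < (f : ℤ) ∧ 4 ^ a ∣ M ∧
        (M : ℤ) * ((f : ℤ) * (1 + s * (f : ℤ))) = (9 * 2 ^ a : ℕ) * (s * (v - (f : ℤ)) ^ 2) := by
  haveI : Fact (Nat.Prime 2) := ⟨Nat.prime_two⟩
  have hq : q.Prime := Fact.out
  obtain ⟨x, hx1, hx⟩ := D.exists_ne_one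
  have hηB : η ∈ Cfsg.principalBlock D.M G := by
    by_contra hn
    have h0 := D.eq_zero_of_notMem hC hn hx hx1
    have hc := char_cong_of_commute D.hM η (Commute.one_right x) (k := 1)
      (by rw [pow_one, D.x_pow hx]) (not_dvd_one (G := G))
    rw [mul_one, h0, ← deg_cast, hf] at hc
    exact hqf ((ideal_natCast_iff D.hM _).1 (cong_zero_iff.1 (cong_symm D.hM hc)))
  have hηX : η ∈ D.X := by
    refine ((D.mem_block η).1 hηB).resolve_right fun h => ?_
    have h2 := D.deg_Y η h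
    rw [hf, he] at h2
    rcases D.ε_eq with e | e <;> rw [e] at h2
    · exact hY.1 (by simpa using h2)
    · exact hY.2 (by simpa using h2)
  obtain ⟨θ, hθ⟩ := D.Y_nonempty
  have hθ1 : deg θ ≠ 1 := fun h1 => by
    have h2 := D.deg_Y θ hθ
    rw [h1, he] at h2
    have h3 := Int.ModEq.dvd h2
    have hq' := D.two_lt
    rcases D.ε_eq with e | e <;> rw [e] at h3
    · norm_num at h3
      first
        | exact hq.ne_one (Nat.dvd_one.1 (by exact_mod_cast h3))
        | exact hq.ne_one h3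
        | exact hq.ne_one (by exact_mod_cast h3)
        | (rw [Int.isUnit_iff] at h3; omega)
    · norm_num at h3
      have h4 := Int.natAbs_dvd_natAbs.2 h3
      norm_num at h4
      exact hq3 ((Nat.prime_dvd_prime_iff_eq hq Nat.prime_three).1 h4)
  obtain ⟨ht, hts⟩ := D.trivIrr_mem_X hθ hθ1
  obtain ⟨T⟩ : Nonempty (Sylow 2 G) := inferInstance
  have hTc : Nat.card (T : Subgroup G) = 2 ^ a := by
    have h9 : ¬ 2 ∣ 9 * q := by
      rw [Nat.prime_two.dvd_mul]
      rintro (h | h)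
      · norm_num at h
      · exact hq2 ((Nat.prime_dvd_prime_iff_eq Nat.prime_two hq).1 h).symm
    rw [T.card_eq_multiplicity, show Nat.card G = 2 ^ a * (9 * q) by rw [hcard]; ring,
      Nat.factorization_mul (by positivity) (mul_ne_zero (by norm_num) hq.ne_zero),
      Finsupp.add_apply, Nat.factorization_eq_zero_of_not_dvd h9,
      Nat.Prime.factorization_pow Nat.prime_two, Finsupp.single_eq_same, add_zero]
  haveI : Nontrivial (T : Subgroup G) := Finite.one_lt_card_iff_nontrivial.1 (by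
    rw [hTc]; exact Nat.one_lt_two_pow (by omega))
  haveI := T.2.center_nontrivial
  have h2z : 2 ∣ Nat.card (center (T : Subgroup G)) := by
    obtain ⟨k, hk0, hk⟩ := (IsPGroup.nontrivial_iff_card
      (G := center (T : Subgroup G)) (p := 2) (T.2.to_subgroup _)).1 inferInstance
    rw [hk]; exact dvd_pow_self 2 hk0.ne'
  obtain ⟨z, hz⟩ := exists_prime_orderOf_dvd_card' 2 h2z
  rw [← orderOf_coe, ← orderOf_coe] at hz
  set t : G := ((z : (T : Subgroup G)) : G) with ht'
  have hTt : (T : Subgroup G) ≤ centralizer ({t} : Set G) := fun c hc =>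
    mem_centralizer_singleton_iff.2
      (congrArg Subtype.val (mem_center_iff.1 z.2 ⟨c, hc⟩) : c * t = t * c)
  obtain ⟨v, hv, hv4, hvlt⟩ := involution_value hG hη hz
  obtain ⟨M, hM4, hM⟩ := exists_count D hC ht hts he (m := 9 * 2 ^ a) (by rw [hcard]; ring) hηX hη
    hTt hTc hv (by
      rw [hz]; exact fun h => hq2 ((Nat.prime_dvd_prime_iff_eq hq Nat.prime_two).1 h))
  rw [hf] at hv4 hvlt hM
  exact ⟨D.sgn η, v, M, D.sgn_eq η hηX, hf ▸ D.deg_X η hηX, hv4, hvlt, hM4, hM⟩

/-- The bound from Blichfeldt's congruence at two. -/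
theorem two_pow_dvd (hG : ¬ IsMulCommutative G) {q a : ℕ} (hq : q.Prime) (hq2 : q ≠ 2)
    (hcard : Nat.card G = 9 * 2 ^ a * q) {ζ : Cfsg.IrrCharacter G} (hne : ζ ≠ trivIrr G)
    (hint : ∀ g, ∃ k : ℤ, (ζ : G → ℂ) g = (k : ℂ)) (hdeg : deg ζ = q) :
    (2 : ℤ) ^ a ∣ ∏ v ∈ (Finset.Ioo (-(q : ℤ)) q).filter (fun v => (2 : ℤ) ∣ (q : ℤ) - v),
      ((q : ℤ) - v) := by
  haveI : Fact (Nat.Prime 2) := ⟨Nat.prime_two⟩
  have h := blichfeldt (q := 2) ζ
    ((Finset.Ioo (-(q : ℤ)) q).filter (fun v => (2 : ℤ) ∣ (q : ℤ) - v)) (fun g hg ⟨k, hk⟩ => by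
    obtain ⟨v, hv⟩ := hint g
    refine ⟨v, ?_, hv⟩
    have hm := value_mem hG Nat.prime_two hne hg hk hv
    rw [hdeg] at hm
    exact_mod_cast hm)
  rw [hdeg] at h
  have hfac : (Nat.card G).factorization 2 = a := by
    have h9 : ¬ 2 ∣ 9 * q := by
      rw [Nat.prime_two.dvd_mul]
      rintro (h | h)
      · norm_num at h
      · exact hq2 ((Nat.prime_dvd_prime_iff_eq Nat.prime_two hq).1 h).symm
    rw [show Nat.card G = 2 ^ a * (9 * q) by rw [hcard]; ring,
      Nat.factorization_mul (by positivity) (mul_ne_zero (by norm_num) hq.ne_zero),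
      Finsupp.add_apply, Nat.factorization_eq_zero_of_not_dvd h9,
      Nat.Prime.factorization_pow Nat.prime_two, Finsupp.single_eq_same, add_zero]
  rw [hfac] at h
  exact_mod_cast h

theorem not_five (hG : ¬ IsMulCommutative G) {a : ℕ} (hcard : Nat.card G = 9 * 2 ^ a * 5)
    (F : Found G 5 1) : False := by
  haveI : Fact (Nat.Prime 5) := ⟨by norm_num⟩
  have hx : deg F.η = 4 := by
    rcases F.near with h | h
    · exfalso
      rcases Nat.lt_or_ge F.x 3 with h3 | h3
      · interval_cases hx : F.x <;> norm_num at h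
      · have := Nat.pow_le_pow_right (show 1 ≤ 2 by norm_num) h3
        omega
    · rw [F.deg_η]; omega
  have ha : a ≤ 7 := by
    by_contra hlt
    have h := two_pow_dvd hG (by norm_num) (by norm_num) hcard F.ζ_ne F.int_ζ F.deg_ζ
    have h2 : (∏ v ∈ (Finset.Ioo (-((5 : ℕ) : ℤ)) ((5 : ℕ) : ℤ)).filter
        (fun v => (2 : ℤ) ∣ ((5 : ℕ) : ℤ) - v), (((5 : ℕ) : ℤ) - v)) = 384 := by decide
    rw [h2] at h
    have h3 : (2 : ℤ) ^ 8 ∣ 384 := (pow_dvd_pow 2 (by omega)).trans h
    norm_num at h3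
  obtain ⟨P, D, hC, he1, hmod⟩ := block_setup hG (by norm_num) (by norm_num) hcard
  have hdvd : D.e ∣ 4 := D.e_dvd
  have hele : D.e ≤ 4 := Nat.le_of_dvd (by norm_num) hdvd
  have hcases : (D.e = 4 ∧ a ≤ 4) ∨ D.e = 2 := by
    interval_cases he : D.e
    · exact Or.inr rfl
    · norm_num at hdvd
    · left
      refine ⟨rfl, ?_⟩
      interval_cases a <;> first | omega | (norm_num [Nat.ModEq] at hmod)
  rcases hcases with ⟨he, ha4⟩ | he
  · have hle : Nat.card G ≤ 1092 := by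
      rw [hcard]
      have := Nat.pow_le_pow_right (show 1 ≤ 2 by norm_num) ha4
      omega
    rw [he] at hmod
    rcases S0496.result hG hle with h | h | h | h | h | h <;> rw [hcard] at h <;>
      interval_cases a <;>
        first
          | omega
          | (revert h hmod; norm_num [Nat.ModEq]; done)
  · rw [he] at hmod
    have ha3 : 3 ≤ a := by
      by_contra h
      interval_cases a <;> norm_num [Nat.ModEq] at hmod
    obtain ⟨s, v, M, hs, hfs, hv4, hvlt, hM4, hM⟩ := four_pow_dvd hG (by norm_num) (by norm_num) hcard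
      (by omega) D hC he F.η_ne hx (by norm_num) (by norm_num [Int.ModEq])
    rcases hs with rfl | rfl
    · norm_num [Int.ModEq] at hfs
    · have hv0 : v = 0 := by
        obtain ⟨k, hk⟩ := hv4
        have := abs_lt.1 hvlt
        push_cast at hk this
        omega
      subst hv0
      obtain ⟨c, rfl⟩ := hM4
      push_cast at hM
      have h2 : (4 : ℤ) ^ a = 2 ^ a * 2 ^ a := by rw [← mul_pow]; norm_num
      rw [h2] at hM
      have h5 : (2 : ℤ) ^ a ≠ 0 := by positivity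
      have h6 : (2 : ℤ) ^ a * (c : ℤ) * 12 = 144 :=
        mul_left_cancel₀ h5 (by linear_combination -hM)
      have h7 : (2 : ℤ) ^ 3 ∣ 2 ^ a := pow_dvd_pow 2 ha3
      obtain ⟨d, hd⟩ := h7
      rw [hd] at h6
      have h8 : 96 * (d * (c : ℤ)) = 144 := by linear_combination h6
      omega

theorem seven_order (hG : ¬ IsMulCommutative G) {a : ℕ} (hcard : Nat.card G = 9 * 2 ^ a * 7)
    (F : Found G 7 1) : Nat.card G = 504 := by
  haveI : Fact (Nat.Prime 7) := ⟨by norm_num⟩
  have hx : deg F.η = 8 := by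
    rcases F.near with h | h
    · rw [F.deg_η]; omega
    · exfalso
      rcases Nat.lt_or_ge F.x 3 with h3 | h3
      · interval_cases hx : F.x <;> norm_num at h
      · have := Nat.pow_le_pow_right (show 1 ≤ 2 by norm_num) h3
        omega
  have ha : a ≤ 10 := by
    by_contra hlt
    have h := two_pow_dvd hG (by norm_num) (by norm_num) hcard F.ζ_ne F.int_ζ F.deg_ζ
    have h2 : (∏ v ∈ (Finset.Ioo (-((7 : ℕ) : ℤ)) ((7 : ℕ) : ℤ)).filter
        (fun v => (2 : ℤ) ∣ ((7 : ℕ) : ℤ) - v), (((7 : ℕ) : ℤ) - v)) = 46080 := by decide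
    rw [h2] at h
    have h3 : (2 : ℤ) ^ 11 ∣ 46080 := (pow_dvd_pow 2 (by omega)).trans h
    norm_num at h3
  obtain ⟨P, D, hC, he1, hmod⟩ := block_setup hG (by norm_num) (by norm_num) hcard
  have hdvd : D.e ∣ 6 := D.e_dvd
  have hele : D.e ≤ 6 := Nat.le_of_dvd (by norm_num) hdvd
  have hcases : D.e = 2 ∧ (a = 0 ∨ a = 3 ∨ a = 6 ∨ a = 9) := by
    interval_cases he : D.e <;> interval_cases a <;>
      first
        | omega
        | (norm_num [Nat.ModEq] at hmod)
        | (norm_num at hdvd)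
  obtain ⟨he, ha0 | rfl | ha6⟩ := hcases
  · subst ha0
    rcases S0496.result hG (by rw [hcard]; norm_num) with h | h | h | h | h | h <;>
      rw [hcard] at h <;> norm_num at h
  · rw [hcard]; norm_num
  · exfalso
    have ha4 : 4 ≤ a := by omega
    obtain ⟨s, v, M, hs, hfs, hv4, hvlt, hM4, hM⟩ := four_pow_dvd hG (by norm_num) (by norm_num) hcard
      (by omega) D hC he F.η_ne hx (by norm_num) (by norm_num [Int.ModEq])
    rcases hs with rfl | rfl
    swap
    · norm_num [Int.ModEq] at hfs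
    have hv0 : v = 0 ∨ v = 4 ∨ v = -4 := by
      obtain ⟨k, hk⟩ := hv4
      have := abs_lt.1 hvlt
      push_cast at hk this
      omega
    obtain ⟨c, rfl⟩ := hM4
    push_cast at hM
    have h2 : (4 : ℤ) ^ a = 2 ^ a * 2 ^ a := by rw [← mul_pow]; norm_num
    rw [h2] at hM
    have h5 : (2 : ℤ) ^ a ≠ 0 := by positivity
    have h6 : (2 : ℤ) ^ a * (c : ℤ) * 72 = 9 * (v - 8) ^ 2 :=
      mul_left_cancel₀ h5 (by linear_combination hM)
    obtain ⟨d, hd⟩ : (2 : ℤ) ^ 4 ∣ 2 ^ a := pow_dvd_pow 2 ha4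
    rw [hd] at h6
    rcases hv0 with rfl | rfl | rfl <;> norm_num at h6 <;>
    · have h7 : (128 : ℤ) ∣ 16 * d * (c : ℤ) * 72 := ⟨9 * d * (c : ℤ), by ring⟩
      rw [h6] at h7
      norm_num at h7

end Cfsg.Agent.NineSection
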