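import Mathlib
import Cfsg.Agent.S0997
import Cfsg.Agent.S1011
import Cfsg.Agent.S1020
import Cfsg.Agent.Lib.PSLOrderSpectrum.Main
import Cfsg.Agent.Lib.NineSection.Small

/-!
# The groups with three classes of non-trivial elements of exponent nine
-/

set_option autoImplicit false
set_option linter.style.haveILetI false
set_option linter.unusedSectionVars false

namespace Cfsg.Agent.NineSection

universe u

variable {G : Type u} [Group G] [Finite G]

/-- The odd part of `9·2^i`. -/
theorem odd_part {i j k : ℕ} (h : 9 * 2 ^ i = k * 2 ^ j) (hk : Odd k) : k = 9 := by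
  have h2 : Nat.Coprime k 2 := hk.coprime_two_right
  refine Nat.dvd_antisymm ((h2.pow_right i).dvd_of_dvd_mul_right (h ▸ dvd_mul_right k _)) ?_
  exact (Nat.Coprime.pow_right j (by norm_num : Nat.Coprime 9 2)).dvd_of_dvd_mul_right
    (h ▸ dvd_mul_right 9 _)

theorem not_isCyclic_of (hG : ¬ IsMulCommutative G) : ¬ IsCyclic G := fun h => by
  obtain ⟨g, hg⟩ := h.exists_generator
  exact hG ⟨⟨fun x y => by
    obtain ⟨i, rfl⟩ := Subgroup.mem_zpowers_iff.1 (hg x)
    obtain ⟨j, rfl⟩ := Subgroup.mem_zpowers_iff.1 (hg y)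
    exact ((Commute.refl g).zpow_zpow i j).eq⟩⟩

/-- The large primes. -/
theorem large [IsSimpleGroup G] (hG : ¬ IsMulCommutative G) {q a : ℕ} (hq : q.Prime)
    (hq11 : 11 ≤ q) (hcard : Nat.card G = 9 * 2 ^ a * q) {x : ℕ}
    (hx : q + 1 = 2 ^ x ∨ 2 ^ x + 1 = q) :
    Nonempty (G ≃* Matrix.ProjectiveSpecialLinearGroup (Fin 2) (ZMod 17)) := by
  haveI : Fact (Nat.Prime 17) := ⟨by norm_num⟩
  rcases S0997.result (not_isCyclic_of hG) q 2 a 9 hq Nat.prime_two (by omega)
    (by rw [hcard]; ring) (by omega) with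
    ⟨m, F, _, _, hF, -, ⟨e⟩⟩ | ⟨m, F, _, _, hF, hm, -, ⟨e⟩⟩
  · have h1 := PSLOrderSpectrum.card_psl_two (F := F)
    rw [hF, ← Nat.card_congr e.toEquiv, hcard] at h1
    have hgcd : Nat.gcd 2 (q - 1) = 2 := Nat.gcd_eq_left
      (by obtain ⟨r, hr⟩ := hq.odd_of_ne_two (by omega); exact ⟨r, by omega⟩)
    rw [hgcd] at h1
    have h2 : 2 * (9 * 2 ^ a) = (q - 1) * (q + 1) := by
      refine Nat.eq_of_mul_eq_mul_left hq.pos ?_
      rw [← h1]; ring
    have hx2 : 2 ≤ x := by
      by_contra hlt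
      interval_cases x <;> rcases hx with h | h <;> omega
    obtain ⟨y, rfl⟩ := Nat.exists_eq_add_of_le hx2
    have hpow : 2 ^ (2 + y) = 2 * (2 * 2 ^ y) := by rw [pow_add]; ring
    have key : ∀ k : ℕ, Odd k → (q - 1) * (q + 1) = 2 ^ (2 + y) * (2 * k) → k = 9 := fun k hk h => by
      refine odd_part (i := a + 1) (j := 2 + y + 1) ?_ hk
      rw [pow_succ, pow_succ]
      linarith [h2, h]
    have hq17 : q = 17 := by
      have hy : 1 ≤ 2 ^ y := Nat.one_le_two_pow
      rcases hx with h | h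
      · have hk := key (2 * 2 ^ y - 1) ⟨2 ^ y - 1, by omega⟩ (by
          rw [show q - 1 = 2 * (2 * 2 ^ y - 1) by omega, h]; ring)
        rcases Nat.lt_or_ge y 3 with hy3 | hy3
        · interval_cases y <;> norm_num at hk
        · have := Nat.pow_le_pow_right (show 1 ≤ 2 by norm_num) hy3
          omega
      · have hk := key (2 * 2 ^ y + 1) ⟨2 ^ y, by omega⟩ (by
          rw [show q + 1 = 2 * (2 * 2 ^ y + 1) by omega, show q - 1 = 2 ^ (2 + y) by omega])
        omega
    subst hq17
    refine S1020.result (G := G) ?_ (F := ZMod 17) (ZMod.card 17)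
    rw [hcard]
    norm_num at h2 ⊢
    omega
  · exfalso
    have h1 := PSLOrderSpectrum.card_psl_two (F := F)
    rw [hF, ← Nat.card_congr e.toEquiv, hcard] at h1
    have hm1 : 1 ≤ m := by
      by_contra h
      obtain rfl : m = 0 := by omega
      norm_num at hm
      omega
    have he : (2 : ℕ) ∣ 2 ^ m := dvd_pow_self 2 (by omega)
    have hgcd : Nat.gcd 2 (2 ^ m - 1) = 1 := by
      rw [← Nat.coprime_iff_gcd_eq_one, Nat.prime_two.coprime_iff_not_dvd]
      have := Nat.one_le_two_pow (n := m)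
      omega
    rw [hgcd, one_mul, show 2 ^ m + 1 = q from hm.symm, ← mul_assoc] at h1
    have h2 := Nat.eq_of_mul_eq_mul_right hq.pos h1
    have hk := odd_part (i := a) (j := m) (k := 2 ^ m - 1) (by rw [h2, mul_comm]) (by
      rw [Nat.odd_iff]
      have := Nat.one_le_two_pow (n := m)
      omega)
    rcases Nat.lt_or_ge m 4 with h4 | h4
    · interval_cases m <;> norm_num at hk
    · have := Nat.pow_le_pow_right (show 1 ≤ 2 by norm_num) h4
      omega

theorem classify [IsSimpleGroup G] (hG : ¬ IsMulCommutative G) {q a b : ℕ} (hq : q.Prime)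
    (hq2 : q ≠ 2) (hq3 : q ≠ 3) (hcard : Nat.card G = 9 * 2 ^ a * q ^ b)
    (h3 : 3 ≤ Nat.card {C : ConjClasses G // ∃ g ∈ C.carrier, g ≠ 1 ∧ orderOf g ∣ 9}) :
    (∃ (F : Type) (_ : Field F) (_ : Fintype F), Fintype.card F = 8 ∧
        Nonempty (G ≃* Matrix.ProjectiveSpecialLinearGroup (Fin 2) F)) ∨
      Nonempty (G ≃* Matrix.ProjectiveSpecialLinearGroup (Fin 2) (ZMod 17)) := by
  obtain ⟨F⟩ := exists_found hG hq hq2 hq3 hcard h3
  obtain rfl := F.b_eq
  rw [pow_one] at hcard
  rcases Nat.lt_or_ge q 11 with hlt | hge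
  · left
    have h4 := hq.two_le
    have h57 : q = 5 ∨ q = 7 := by
      interval_cases q <;> first | omega | norm_num at hq
    rcases h57 with rfl | rfl
    · exact (not_five hG hcard F).elim
    · have h504 := seven_order hG hcard F
      haveI : Fact (Nat.Prime 2) := ⟨Nat.prime_two⟩
      letI : Fintype (GaloisField 2 3) := Fintype.ofFinite _
      have hF : Fintype.card (GaloisField 2 3) = 8 := by
        rw [← Nat.card_eq_fintype_card, GaloisField.card 2 3 (by norm_num)]; norm_num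
      exact ⟨GaloisField 2 3, inferInstance, inferInstance, hF, S1011.result h504 hF⟩
  · exact Or.inr (large hG hq hge hcard F.near)

end Cfsg.Agent.NineSection
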